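import Mathlib
import Cfsg.Agent.Nodes.RGDLib
import Cfsg.Agent.KFacts.RgdSyl
import Cfsg.Agent.KFacts.RgdCent

/-!
# Simply laced groups of characteristic two: the bundle (K-facts for S1765, D7)

* `Datum K q cs h T n X` : `X` is a root group datum of the subgroup `K` of `Y`, simply laced, connected diagram of rank
  at least `3`, characteristic `2`, root groups of order `q`, `K = ⟨X x⟩`, trivial centre;
* `IsSL q l K'` : the group `K'` has such a datum of rank `l`;
* `IsSL.exists_datum` : transport to a subgroup `K ≅ K'` of a group `G`.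
-/

set_option autoImplicit false
set_option linter.unusedSectionVars false

namespace Cfsg.Agent.KFacts.SLRow.Def

open CoxeterSystem Cfsg.Agent.ChevalleyStructure.CoxeterGeom Cfsg.Agent.Tits.Roots Cfsg.Agent.Tits.Core
  Cfsg.Agent.Tits.Exchange Cfsg.Agent.Nodes.Reps Cfsg.Agent.Nodes.BNOf Cfsg.Agent.Nodes.StabComb
  Cfsg.Agent.Nodes.Bruhat Cfsg.Agent.Nodes.RGDLib Cfsg.Agent.KFacts.RgdCent

universe u v

/-- A connected diagram. -/
def Conn {I : Type*} (M : CoxeterMatrix I) : Prop :=
  ∀ J : Set I, J.Nonempty → Jᶜ.Nonempty → ∃ i ∈ J, ∃ j ∈ Jᶜ, M i j ≠ 2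

/-- A diagram is connected if every node has a path to a fixed node. -/
theorem conn_of_parent {I : Type*} {M : CoxeterMatrix I} (d : I → ℕ) (par : I → I)
    (h0 : ∀ i j, d i = 0 → d j = 0 → i = j)
    (h1 : ∀ i, d i ≠ 0 → d (par i) < d i) (h2 : ∀ i, d i ≠ 0 → M i (par i) ≠ 2) : Conn M := by
  intro J hJ hJc
  by_contra hcon
  push Not at hcon
  -- `i` and `par i` are on the same side
  have h3 : ∀ i, d i ≠ 0 → (i ∈ J ↔ par i ∈ J) := by
    intro i hi
    constructor
    · intro h4
      by_contra h5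
      exact h2 i hi (hcon i h4 (par i) h5)
    · intro h4
      by_contra h5
      apply h2 i hi
      rw [M.symmetric]
      exact hcon (par i) h4 i h5
  have h4 : ∀ (k : ℕ) (i : I), d i = k → ∃ z, d z = 0 ∧ (i ∈ J ↔ z ∈ J) := by
    intro k
    induction k using Nat.strong_induction_on with
    | _ k ih =>
      intro i hi
      by_cases hd : d i = 0
      · exact ⟨i, hd, Iff.rfl⟩
      · obtain ⟨z, hz, e⟩ := ih (d (par i)) (by have := h1 i hd; omega) (par i) rfl
        exact ⟨z, hz, (h3 i hd).trans e⟩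
  obtain ⟨i, hi⟩ := hJ
  obtain ⟨j, hj⟩ := hJc
  obtain ⟨z, hz, e⟩ := h4 _ i rfl
  obtain ⟨z', hz', e'⟩ := h4 _ j rfl
  have h5 := e.1 hi
  rw [h0 z z' hz hz'] at h5
  exact hj (e'.2 h5)

section

variable {I : Type*} {W : Type*} {Y : Type*} [Fintype I] [DecidableEq I] [Group W] [Group Y] {M : CoxeterMatrix I}

/-- A simply laced connected root group datum of rank at least `3` of the subgroup `K` in characteristic `2`. -/
structure Datum (K : Subgroup Y) (q : ℕ) (cs : CoxeterSystem M W) {A : I → I → ℤ} (h : IsCartan M A) (T : Subgroup Y)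
    (n : I → Y) (X : (I → ℤ) → Subgroup Y) : Prop where
  rgd : RGD cs h 2 T n X
  TK : T ≤ K
  gen : RGD.Sup X {x | IsRoot cs h x} = K
  cent : NoCent cs h T X
  irr : Conn M
  three : 3 ≤ Fintype.card I
  h4 : ∀ i j, M i j ≠ 4
  h6 : ∀ i j, M i j ≠ 6
  card : ∀ x, IsRoot cs h x → Nat.card ↥(X x) = q

variable {K : Subgroup Y} {q : ℕ} {cs : CoxeterSystem M W} {A : I → I → ℤ} {h : IsCartan M A} {T : Subgroup Y}
    {n : I → Y} {X : (I → ℤ) → Subgroup Y}

theorem Datum.XK (D : Datum K q cs h T n X) {x : I → ℤ} (hx : IsRoot cs h x) : X x ≤ K := by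
  rw [← D.gen]
  exact RGD.le_Sup (S := {x | IsRoot cs h x}) hx

theorem Datum.GG_eq (D : Datum K q cs h T n X) : GG cs h T X = K := by
  unfold GG
  rw [D.gen]
  exact sup_eq_right.2 D.TK

theorem Datum.UK (D : Datum K q cs h T n X) : RGD.Sup X (RGD.Pos cs h) ≤ K := by
  rw [← D.gen]
  exact RGD.Sup_mono fun x hx => hx.1

theorem Datum.odd [Finite W] [Finite Y] (D : Datum K q cs h T n X) :
    Odd ((RGD.Sup X (RGD.Pos cs h)).relIndex K) := by
  have := RgdSyl.odd_relIndex D.rgd rfl
  rwa [D.GG_eq] at this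

/-- `U⟨t⟩` has odd index in `C(t)`. -/
theorem Datum.odd_centralizer [Finite W] [Finite Y] (D : Datum K q cs h T n X) {t : Y} (htt : t * t = 1)
    (htK : ∀ k ∈ K, t * k = k * t) (ht : t ∉ K)
    (hK : Odd ((K ⊔ Subgroup.zpowers t).relIndex (Subgroup.centralizer {t}))) :
    Odd ((RGD.Sup X (RGD.Pos cs h) ⊔ Subgroup.zpowers t).relIndex (Subgroup.centralizer {t})) := by
  have hG := D.GG_eq
  refine RgdSyl.odd_relIndex_centralizer D.rgd rfl htt ?_ ?_ ?_
  · rwa [hG]
  · rwa [hG]
  · rwa [hG]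

/-- Transport along an injective homomorphism. -/
theorem Datum.map {Y' : Type*} [Group Y'] (D : Datum K q cs h T n X) (f : Y →* Y') (hf : Function.Injective f) :
    Datum (K.map f) q cs h (T.map f) (fun i => f (n i)) (fun x => (X x).map f) where
  rgd := rgd_map_of_injective D.rgd f hf
  TK := Subgroup.map_mono D.TK
  gen := by
    rw [← D.gen]
    unfold RGD.Sup
    rw [Subgroup.map_iSup]
  cent := by
    rintro _ ⟨t, ht, rfl⟩ hc
    rw [D.cent t ht, map_one]
    intro b hb v hv
    apply hf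
    rw [map_mul, map_mul]
    exact hc b hb _ ⟨v, hv, rfl⟩
  irr := D.irr
  three := D.three
  h4 := D.h4
  h6 := D.h6
  card x hx := by
    rw [← D.card x hx]
    exact (Nat.card_congr ((X x).equivMapOfInjective f hf).toEquiv).symm

end

/-- The group `K'` has a simply laced connected root group datum of rank `l ≥ 3` in characteristic `2`, with root groups
of order `q`. -/
def IsSL (q l : ℕ) (K' : Type v) [Group K'] : Prop :=
  ∃ (M : CoxeterMatrix (Fin l)) (A : Fin l → Fin l → ℤ) (h : IsCartan M A) (T : Subgroup K') (n : Fin l → K')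
    (X : (Fin l → ℤ) → Subgroup K'), Finite M.Group ∧ Datum ⊤ q M.toCoxeterSystem h T n X

theorem IsSL.exists_datum {q l : ℕ} {K' : Type v} [Group K'] (hK : IsSL q l K') {G : Type u} [Group G]
    (K : Subgroup G) (e : K' ≃* ↥K) :
    ∃ (M : CoxeterMatrix (Fin l)) (A : Fin l → Fin l → ℤ) (h : IsCartan M A) (T : Subgroup G) (n : Fin l → G)
      (X : (Fin l → ℤ) → Subgroup G), Finite M.Group ∧ Datum K q M.toCoxeterSystem h T n X := by
  obtain ⟨M, A, h, T, n, X, hW, D⟩ := hK
  have D' := D.map (K.subtype.comp e.toMonoidHom) (by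
    intro a b hab
    exact e.injective (Subtype.ext hab))
  have e1 : (⊤ : Subgroup K').map (K.subtype.comp e.toMonoidHom) = K := by
    rw [← Subgroup.map_map, Subgroup.map_top_of_surjective _ e.surjective, ← MonoidHom.range_eq_map,
      Subgroup.range_subtype]
  rw [e1] at D'
  exact ⟨M, A, h, _, _, _, hW, D'⟩

theorem IsSL.of_equiv {q l : ℕ} {K' : Type v} [Group K'] (hK : IsSL q l K') {K'' : Type u} [Group K'']
    (e : K' ≃* K'') : IsSL q l K'' := by
  obtain ⟨M, A, h, T, n, X, hW, D⟩ := hK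
  have D' := D.map e.toMonoidHom e.injective
  rw [Subgroup.map_top_of_surjective _ e.surjective] at D'
  exact ⟨M, A, h, _, _, _, hW, D'⟩

end Cfsg.Agent.KFacts.SLRow.Def
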