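import Cfsg.Agent.KFacts.SLRow.TypeA
import Cfsg.Agent.KFacts.SLRow.Def

/-!
# `PSL_{n+1}(q)`, `n ≥ 3`, `q` even: simply laced data (K-facts for S1765, D7)

`isSL_PSL`, `isSL_PSL'`.
-/

set_option autoImplicit false
set_option linter.unusedSectionVars false

namespace Cfsg.Agent.KFacts.SLRow.Psl

open Matrix CoxeterSystem Cfsg.Agent.ChevalleyStructure.CoxeterGeom Cfsg.Agent.Tits.Roots Cfsg.Agent.Tits.Core
  Cfsg.Agent.Nodes.Reps Cfsg.Agent.Nodes.BNOf Cfsg.Agent.Nodes.RGDLib Cfsg.Agent.Nodes.RootsA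
  Cfsg.Agent.Nodes.RGDTypeA Cfsg.Agent.KFacts.ChevTwo Cfsg.Agent.KFacts.SLRow.TypeA Cfsg.Agent.KFacts.SLRow.Def
open Cfsg.Agent.LieRecognition.BNCox (cA cA_apply)
open Cfsg.Agent.LieRecognition.CoxClass (mA)
open Cfsg.Agent.LieClassical.SLGen
open Cfsg.Agent.TitsThree.KSideA (tv tv_of_ne tv_add tv_zero tv_neg tv_comm tv_commute diag2n_eq)

variable {n : ℕ} {F : Type*} [Field F] (h2 : ∀ t : F, t + t = 0)
  {W : Type*} [Group W] (cs : CoxeterSystem (cA n) W) {A : Fin n → Fin n → ℤ} (h : IsCartan (cA n) A)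

theorem mem_center_of_commute {g : SpecialLinearGroup (Fin (n + 1)) F}
    (hg : ∀ a b : Fin (n + 1), a ≠ b → ∀ t : F, g * tv a b t = tv a b t * g) :
    g ∈ Subgroup.center (SpecialLinearGroup (Fin (n + 1)) F) := by
  rw [Subgroup.mem_center_iff]
  intro k
  have h1 : (⊤ : Subgroup (SpecialLinearGroup (Fin (n + 1)) F)) ≤ Subgroup.centralizer {g} := by
    rw [← closure_transvections (ι := Fin (n + 1)) (F := F), Subgroup.closure_le]
    rintro _ ⟨a, b, hab, t, rfl⟩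
    rw [← tv_of_ne hab]
    rw [SetLike.mem_coe, Subgroup.mem_centralizer_singleton_iff]
    exact (hg a b hab t).symm
  exact Subgroup.mem_centralizer_singleton_iff.1 (h1 (Subgroup.mem_top k))

include h2 in
theorem noCent : RgdCent.NoCent cs h ((T (Fin (n + 1)) F).map (pr n F)) (fun x => (X F x).map (pr n F)) := by
  rintro _ ⟨d, hd, rfl⟩ hc
  rw [← MonoidHom.mem_ker, ker_pr]
  apply mem_center_of_commute
  intro a b hab t
  have hm := mem_T.1 hd
  have key : d * tv a b t * d⁻¹ = tv a b t := by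
    have h3 := hc (rtA a b) (isRoot_rtA cs h hab) (pr n F (tv a b t)) ⟨_, by rw [X_rtA hab]; exact tv_mem_XX a b t, rfl⟩
    have h4 : pr n F (d * tv a b t * d⁻¹ * (tv a b t)⁻¹) = 1 := by
      rw [map_mul, map_mul, map_mul, map_inv, map_inv, h3]; group
    rw [← MonoidHom.mem_ker, ker_pr, hm.conj_tv hab, Equiv.Perm.coe_one, id, id, ← tv_neg, ← tv_add] at h4
    have h5 := not_mem_center h2 hab h4
    rw [tv_add, tv_neg, mul_inv_eq_one] at h5
    rw [hm.conj_tv hab, Equiv.Perm.coe_one, id, id]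
    exact h5
  calc d * tv a b t = d * tv a b t * d⁻¹ * d := by group
    _ = tv a b t * d := by rw [key]

include h2 in
theorem card_X {x : Fin n → ℤ} (hx : IsRoot cs h x) : Nat.card ↥((X F x).map (pr n F)) = Nat.card F := by
  obtain ⟨a, b, hab, rfl⟩ := exists_of_isRoot cs h hx
  rw [X_rtA hab]
  refine (Nat.card_congr (Equiv.ofBijective
    (fun t : F => (⟨pr n F (tv a b t), ⟨_, tv_mem_XX a b t, rfl⟩⟩ : ↥((XX F a b).map (pr n F))))
    ⟨fun t u htu => ?_, ?_⟩)).symm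
  · have h3 : pr n F (tv a b t) = pr n F (tv a b u) := congrArg Subtype.val htu
    have h4 : tv a b (t + -u) ∈ Subgroup.center (SpecialLinearGroup (Fin (n + 1)) F) := by
      rw [← ker_pr, MonoidHom.mem_ker, tv_add, tv_neg, map_mul, map_inv, h3, mul_inv_cancel]
    have h5 := not_mem_center h2 hab h4
    rw [← tv_zero a b] at h5
    have h6 := tv_inj hab h5
    exact add_neg_eq_zero.1 h6
  · rintro ⟨_, _, ⟨t, rfl⟩, rfl⟩
    exact ⟨t, rfl⟩

theorem conn_cA : Conn (cA n) := by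
  refine conn_of_parent (fun i => (i : ℕ)) (fun i => ⟨(i : ℕ) - 1, by have := i.2; omega⟩) ?_ ?_ ?_
  · intro i j hi hj
    exact Fin.ext (by omega)
  · intro i hi
    show (i : ℕ) - 1 < i
    omega
  · intro i hi
    show mA i ((i : ℕ) - 1) ≠ 2
    unfold mA
    split_ifs <;> omega

theorem cA_ne (i j : Fin n) : cA n i j ≠ 4 ∧ cA n i j ≠ 6 := by
  rw [cA_apply]
  unfold mA
  split_ifs <;> omega

/-- **`PSL_{n+1}(q)`, `q` even, `n ≥ 3`.** -/
theorem isSL_PSL (hn : 3 ≤ n) (F : Type*) [Field F] [Finite F] [CharP F 2] :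
    IsSL (Nat.card F) n (ProjectiveSpecialLinearGroup (Fin (n + 1)) F) := by
  have : Fact (Nat.Prime 2) := ⟨Nat.prime_two⟩
  have h2 : ∀ t : F, t + t = 0 := CharTwo.add_self_eq_zero
  have hW : Finite (cA n).Group := finite_W (cA n).toCoxeterSystem (isCartan n)
  exact ⟨cA n, AA n, isCartan n, _, _, _, hW, rgd_psl (F := F) (cA n).toCoxeterSystem (isCartan n), le_top,
    G1_psl_eq_top _ _, noCent h2 _ _, conn_cA, by simpa using hn, fun i j => (cA_ne i j).1, fun i j => (cA_ne i j).2,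
    fun x hx => card_X h2 _ _ hx⟩

theorem isSL_PSL' {m : ℕ} (hm : 4 ≤ m) (F : Type*) [Field F] [Finite F] [CharP F 2] :
    IsSL (Nat.card F) (m - 1) (ProjectiveSpecialLinearGroup (Fin m) F) := by
  obtain ⟨n, rfl⟩ : ∃ n, m = n + 1 := ⟨m - 1, by omega⟩
  exact isSL_PSL (by omega) F

end Cfsg.Agent.KFacts.SLRow.Psl
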