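import Cfsg.Agent.KFacts.SLRow.Def
import Cfsg.Agent.Nodes.RGDChev
import Cfsg.Agent.S1054

/-!
# `D₄(q)`, `E₆(q)`, `E₇(q)`, `E₈(q)`, `q` even: simply laced data (K-facts for S1765, D7)

`isSL_D4`, `isSL_E6`, `isSL_E7`, `isSL_E8`.
-/

set_option autoImplicit false
set_option linter.unusedSectionVars false

namespace Cfsg.Agent.KFacts.SLRow.Chev

open CoxeterSystem Cfsg.Lie Cfsg.Agent.ChevalleyStructure Cfsg.Agent.ChevalleyStructure.Elts
  Cfsg.Agent.ChevalleyStructure.CoxeterGeom Cfsg.Agent.ChevalleyStructure.CoxeterGeomTypes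
  Cfsg.Agent.Tits.Roots Cfsg.Agent.Tits.Core Cfsg.Agent.Nodes.Reps Cfsg.Agent.Nodes.BNOf
  Cfsg.Agent.Nodes.RGDChev Cfsg.Agent.KFacts.SLRow.Def

universe u

variable {D : ChevalleyDatum} {l : ℕ} {M : CoxeterMatrix (Fin l)}

theorem card_XV (hp : IsType D l M) (K : Type u) [Field K] {W : Type*} [Group W] (cs : CoxeterSystem M W)
    {x : Fin l → ℤ} (hx : IsRoot cs hp.isCartan x) :
    Nat.card ↥((XV D l K x).subgroupOf (D.group K)) = Nat.card K := by
  obtain ⟨r, hr, rfl⟩ := (isRoot_iff hp cs x).1 hx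
  have h1 : Nat.card ↥((XV D l K (vec D l r)).subgroupOf (D.group K)) = Nat.card ↥(XV D l K (vec D l r)) :=
    Nat.card_congr (Subgroup.subgroupOfEquivOfLe (XV_le_group hp _)).toEquiv
  rw [h1, XV_vec hp K hr]
  refine (Nat.card_congr (Equiv.ofBijective
    (fun t : K => (⟨xG hp.inList r t, xG_mem_rootSubgroup hp.inList r t⟩ : ↥(D.rootSubgroup K r)))
    ⟨fun a b hab => ?_, fun g => ?_⟩)).symm
  · exact xG_injective hp.inList hr (congrArg Subtype.val hab)
  · obtain ⟨t, ht⟩ := (mem_rootSubgroup_iff hp.inList r g.1).1 g.2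
    exact ⟨t, Subtype.ext ht.symm⟩

theorem isSL_group (hp : IsType D l M) (hD : D ∈ [chevD4, chevF4, chevE6, chevE7, chevE8])
    (h4 : ∀ i j, M i j ≠ 4) (h6 : ∀ i j, M i j ≠ 6) (hc : Conn M) (h3 : 3 ≤ l) (K : Type u) [Field K] [Finite K]
    [CharP K 2] : IsSL (Nat.card K) l ↥(D.group K) := by
  have : Fact (Nat.Prime 2) := ⟨Nat.prime_two⟩
  have hW : Finite M.Group := finite_W hp M.toCoxeterSystem
  refine ⟨M, cartanOf D l, hp.isCartan, _, _, _, hW,
    rgd (K := K) hp M.toCoxeterSystem 2, le_top, G1_eq_top hp _, ?_, hc, ?_, h4, h6, fun x hx => card_XV hp K _ hx⟩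
  · refine RgdCent.noCent_of_center (rgd (K := K) hp M.toCoxeterSystem 2) (G1_eq_top hp _) ?_
    obtain ⟨hs, hna⟩ := Cfsg.Agent.S1054.result (F := K) D hD
    rcases (inferInstance : (Subgroup.center ↥(D.group K)).Normal).eq_bot_or_eq_top with h | h
    · exact h
    · exfalso
      apply hna
      refine ⟨⟨fun a b => ?_⟩⟩
      have : b ∈ Subgroup.center ↥(D.group K) := by rw [h]; exact Subgroup.mem_top b
      rw [Subgroup.mem_center_iff] at this
      exact this a
  · simpa using h3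

theorem isSL_D4 (K : Type u) [Field K] [Finite K] [CharP K 2] : IsSL (Nat.card K) 4 ↥(chevD4.group K) :=
  isSL_group (M := coxeterD4) (by simp [IsType, typeList]) (by simp) (by intro i; fin_cases i <;> decide)
    (by intro i; fin_cases i <;> decide)
    (conn_of_parent ![0, 1, 2, 2] ![0, 0, 1, 1] (by decide) (by decide) (by decide)) (by norm_num) K

theorem isSL_E6 (K : Type u) [Field K] [Finite K] [CharP K 2] : IsSL (Nat.card K) 6 ↥(chevE6.group K) :=
  isSL_group (M := CoxeterMatrix.E₆) (by simp [IsType, typeList]) (by simp) (by intro i; fin_cases i <;> decide)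
    (by intro i; fin_cases i <;> decide)
    (conn_of_parent ![0, 3, 1, 2, 3, 4] ![0, 3, 0, 2, 3, 4] (by decide) (by decide) (by decide)) (by norm_num) K

theorem isSL_E7 (K : Type u) [Field K] [Finite K] [CharP K 2] : IsSL (Nat.card K) 7 ↥(chevE7.group K) :=
  isSL_group (M := CoxeterMatrix.E₇) (by simp [IsType, typeList]) (by simp) (by intro i; fin_cases i <;> decide)
    (by intro i; fin_cases i <;> decide)
    (conn_of_parent ![0, 3, 1, 2, 3, 4, 5] ![0, 3, 0, 2, 3, 4, 5] (by decide) (by decide) (by decide)) (by norm_num) K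

theorem isSL_E8 (K : Type u) [Field K] [Finite K] [CharP K 2] : IsSL (Nat.card K) 8 ↥(chevE8.group K) :=
  isSL_group (M := CoxeterMatrix.E₈) (by simp [IsType, typeList]) (by simp) (by intro i; fin_cases i <;> decide)
    (by intro i; fin_cases i <;> decide)
    (conn_of_parent ![0, 3, 1, 2, 3, 4, 5, 6] ![0, 3, 0, 2, 3, 4, 5, 6] (by decide) (by decide) (by decide)) (by norm_num) K

end Cfsg.Agent.KFacts.SLRow.Chev
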