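import Cfsg.Agent.KFacts.SLRow.TypeD
import Cfsg.Agent.KFacts.ChevTwo

/-!
# `ChevTwo.Data` of type `D` (K-facts for S1765, D7)

* `nX_sr`, `hX_sr` : the action of `n_i(c)`, `h_i(c)` on the Witt frame, characteristic two;
* `data_D` : `ChevTwo.Data` for the root elements `TypeD.eD` (helper827) in the isometry group.
-/

set_option autoImplicit false
set_option linter.unusedSectionVars false
set_option linter.unusedSimpArgs false

namespace Cfsg.Agent.KFacts.SLRow.DData

open CoxeterSystem Cfsg.Agent.ChevalleyStructure.CoxeterGeom Cfsg.Agent.Tits.Roots Cfsg.Agent.Tits.Core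
  Cfsg.Agent.Nodes.Reps Cfsg.Agent.Nodes.BNOf Cfsg.Agent.Nodes.RGDLib Cfsg.Agent.KFacts.SLRow.Def
  Cfsg.Agent.Nodes.Coroot Cfsg.Agent.KFacts.ChevTwo
open Cfsg.Agent.KFacts.SLRow.TypeD (Hyp eD X_eq_one)
open Cfsg.Agent.Nodes.TypeC (wt ng ng_ng ng_fst wt_ng wt_apply)
open Cfsg.Agent.Nodes.TypeD
open Cfsg.Agent.Nodes.WittRoot (Amb XG mem_XG)
open Cfsg.Agent.Nodes.WittRGDD (rf sg_eq_rf ee_neg_sr)
open Cfsg.Agent.Nodes.WittRGD (eq_or_ng)
open Cfsg.Agent.TitsThree Cfsg.Agent.TitsThree.Siegel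
  Cfsg.Agent.TitsThree.WittFrame Cfsg.Agent.TitsThree.WittWeyl
open scoped commutatorElement

variable {F V : Type*} [Field F] [AddCommGroup V] [Module F V] {H : HForm F V}

/-- An orthogonal form in characteristic two. -/
structure Orth2 (H : HForm F V) : Prop where
  σ : ∀ c, H.σ c = c
  ε : H.ε = 1
  two : ∀ t : F, t + t = 0

theorem orth2_of_hyp {n : ℕ} {Fr : Frame H (Fin (n + 2))} (hH : Hyp Fr) : Orth2 H where
  σ := hH.sig
  ε := hH.eps
  two t := by rw [← two_mul, hH.two, zero_mul]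

theorem Orth2.neg {H : HForm F V} (ho : Orth2 H) (t : F) : -t = t := neg_eq_of_add_eq_zero_left (ho.two t)

section Frame

variable {k : ℕ} (Fr : Frame H (Fin k)) (ho : Orth2 H)

include ho

theorem η_eq (x : Fin k × Bool) : Fr.η x = 1 := by
  unfold Frame.η
  rw [ho.ε, ite_self]

theorem X_swap' {a b : Fin k × Bool} (hab : a.1 ≠ b.1) (t : F) : Fr.X a b t = Fr.X b a t := by
  rw [Fr.X_swap hab, ho.ε, η_eq Fr ho, η_eq Fr ho, ho.σ, inv_one, one_mul, one_mul, one_mul, ho.neg]

theorem conj_X' {g : V ≃ₗ[F] V} (hg : H.IsIso g) {x y x' y' : Fin k × Bool} (h : x.1 ≠ y.1)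
    (h' : x'.1 ≠ y'.1) {l m : F} (hx : g (Fr.b x) = l • Fr.b x') (hy : g (Fr.b y) = m • Fr.b y')
    (t : F) : g * Fr.X x y t * g⁻¹ = Fr.X x' y' (l * m * t) := by
  rw [conj_X Fr hg h h' hx hy, ho.σ, η_eq Fr ho, η_eq Fr ho, inv_one, mul_one, mul_one]

/-- The scalars of `nX x y c`. -/
def cf (x y : Fin k × Bool) (c : F) (z : Fin k × Bool) : F :=
  if z = x then c⁻¹ else if z = ng y then c else if z = ng x then c else if z = y then c⁻¹ else 1

end Frame

variable {n : ℕ} (Fr : Frame H (Fin (n + 2))) (ho : Orth2 H)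

include ho in
theorem nX_b {x y : Fin (n + 2) × Bool} (h : x.1 ≠ y.1) {c : F} (hc : c ≠ 0) (z : Fin (n + 2) × Bool) :
    nX Fr x y c (Fr.b z) = cf x y c z • Fr.b (rf x y z) := by
  unfold rf cf
  by_cases h1 : z = x
  · rw [if_pos h1, if_pos h1, h1, nX_apply_self Fr h hc, ← neg_smul, ho.neg]
    rfl
  by_cases h2 : z = ng y
  · rw [if_neg h1, if_pos h2, if_neg h1, if_pos h2, h2]
    exact nX_apply_neg Fr h hc
  by_cases h4 : z = ng x
  · rw [if_neg h1, if_neg h2, if_pos h4, if_neg h1, if_neg h2, if_pos h4, h4]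
    have := nX_apply_neg' Fr h hc
    rw [ho.ε, η_eq Fr ho, η_eq Fr ho, ho.σ, inv_one, one_mul, one_mul, one_mul, ← neg_smul, ho.neg] at this
    exact this
  by_cases h5 : z = y
  · rw [if_neg h1, if_neg h2, if_neg h4, if_pos h5, if_neg h1, if_neg h2, if_neg h4, if_pos h5, h5]
    have := nX_apply_self' Fr h hc
    rw [ho.ε, η_eq Fr ho, η_eq Fr ho, ho.σ, inv_one, one_mul, one_mul, one_mul] at this
    exact this
  rw [if_neg h1, if_neg h2, if_neg h4, if_neg h5, if_neg h1, if_neg h2, if_neg h4, if_neg h5, one_smul]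
  apply nX_apply_of_ne Fr h
  · intro h6
    rcases eq_or_ng h6 with h7 | h7
    · exact h1 h7
    · exact h4 h7
  · intro h6
    rcases eq_or_ng h6 with h7 | h7
    · exact h5 h7
    · exact h2 h7

theorem Cf_wt (i : Fin (n + 2)) (z : Fin (n + 2) × Bool) : Cf i (wt z) =
    if z = (i, true) then 1 else if z = ng (nx i) then -1 else if z = ng (i, true) then -1 else
      if z = nx i then 1 else 0 := by
  obtain ⟨j, s⟩ := z
  have := i.2
  unfold Cf nx pd ng
  simp only [wt_apply]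
  cases s <;> split_ifs <;> simp_all [Fin.ext_iff]

theorem cf_eq (i : Fin (n + 2)) (c : F) (z : Fin (n + 2) × Bool) :
    cf (i, true) (nx i) c z = c ^ (-Cf i (wt z)) := by
  rw [Cf_wt]
  unfold cf
  split_ifs <;> simp

theorem Cf_sg (i : Fin (n + 2)) (z : Fin (n + 2) × Bool) : Cf i (wt (sg i z)) = -Cf i (wt z) := by
  have h1 : Cf i (bt i) = 2 := by
    have := A_apply (n := n) i i
    rw [if_pos rfl] at this
    exact this
  rw [wt_sg, sub_eq_add_neg, ← neg_smul, Cf_add, Cf_smul, h1]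
  ring

include ho in
theorem nX_sr (i : Fin (n + 2)) {c : F} (hc : c ≠ 0) (z : Fin (n + 2) × Bool) :
    nX Fr (i, true) (nx i) c (Fr.b z) = c ^ (-Cf i (wt z)) • Fr.b (sg i z) := by
  rw [nX_b Fr ho (ok_nx i) hc, cf_eq, sg_eq_rf]

include ho in
theorem hX_sr (i : Fin (n + 2)) {c : F} (hc : c ≠ 0) (z : Fin (n + 2) × Bool) :
    (nX Fr (i, true) (nx i) c * nX Fr (i, true) (nx i) 1) (Fr.b z) = c ^ Cf i (wt z) • Fr.b z := by
  rw [mul_apply', nX_sr Fr ho i one_ne_zero, one_zpow, one_smul, nX_sr Fr ho i hc, Cf_sg, _root_.neg_neg, sg_sg]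

/-! ### The root elements -/

variable {Fr} in
theorem nc_eD (hH : Hyp Fr) (i : Fin (n + 2)) (c : F) : nc (eD Fr) (sr i) c = nX Fr (i, true) (nx i) c := by
  rw [nc_def, TypeD.eD_eq hH (ok_nx i) (ee_sr i), TypeD.eD_eq hH (ok_nx i).ng (ee_neg_sr i),
    X_swap' Fr (orth2_of_hyp hH) (ok_nx i).ng, nX, (orth2_of_hyp hH).neg]
  rfl

variable {G : Type*} [Group G] (cs : CoxeterSystem (M n) G)

include ho in
theorem comm_p (h0 : ∀ p : Fr.Adm, p = 1) {p q : Fin (n + 2) × Bool} (hpq : Ok p q) (t u : F) :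
    Commute (Fr.X p (ng q) t) (Fr.X p q u) := by
  have e1 := Fr.X_mul_X_same hpq u t
  rw [h0 (Frame.Adm.tr _), Fr.Z_one, one_mul] at e1
  exact e1.symm

theorem bracket {x y z : Fin (n + 2) × Bool} (hxy : x.1 ≠ y.1) (hyz : y.1 ≠ z.1) (hxz : x.1 ≠ z.1) (s t : F) :
    ⁅Fr.X x y s, Fr.X (ng y) z t⁆ = Fr.X x z (s * t) := by
  have e1 := Fr.conj_X_X hxy hyz hxz s t
  rw [commutatorElement_def]
  have e3 : Fr.X x y s * Fr.X (ng y) z t * (Fr.X x y s)⁻¹ = _ := e1
  rw [e3]
  exact mul_inv_cancel_right _ _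


/-- the values of the coroots on the weights -/
theorem Cf_cases (i : Fin (n + 2)) (z : Fin (n + 2) × Bool) : Cf i (wt z) = 1 ∧ (z = (i, true) ∨ z = nx i) ∨
    Cf i (wt z) = -1 ∧ (z = ng (i, true) ∨ z = ng (nx i)) ∨ Cf i (wt z) = 0 ∧ z.1 ≠ i ∧ z.1 ≠ (nx i).1 := by
  rw [Cf_wt]
  split_ifs with h1 h2 h3 h4
  · exact Or.inl ⟨rfl, Or.inl h1⟩
  · exact Or.inr (Or.inl ⟨rfl, Or.inr h2⟩)
  · exact Or.inr (Or.inl ⟨rfl, Or.inl h3⟩)
  · exact Or.inl ⟨rfl, Or.inr h4⟩
  · refine Or.inr (Or.inr ⟨rfl, ?_, ?_⟩)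
    · intro h5
      rcases eq_or_ng (b := ((i, true) : Fin (n + 2) × Bool)) h5 with h6 | h6
      · exact h1 h6
      · exact h3 h6
    · intro h5
      rcases eq_or_ng h5 with h6 | h6
      · exact h4 h6
      · exact h2 h6

theorem pairing_eq (i : Fin (n + 2)) {x : Fin (n + 2) → ℤ} {a b : Fin (n + 2) × Bool} (e : ee x = wt a + wt b) :
    pairing (A n) i x = Cf i (wt a) + Cf i (wt b) := by
  rw [← Cf_ee, e, Cf_add]

variable {Fr} in
theorem data_D [Finite G] (hH : Hyp Fr) : Data cs (isCartan n) (eD Fr) := by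
  have ho := orth2_of_hyp hH
  have h0 := hH.adm
  refine Data.mk' ho.two ?_ ?_ ?_ ?_ ?_ ?_ ?_ ?_
  · intro x hx t u
    obtain ⟨a, b, hab, e⟩ := exists_of_isRoot cs hx
    rw [TypeD.eD_eq hH hab e, TypeD.eD_eq hH hab e, TypeD.eD_eq hH hab e, Fr.X_add]
  · intro x hx t ht
    obtain ⟨a, b, hab, e⟩ := exists_of_isRoot cs hx
    rw [TypeD.eD_eq hH hab e] at ht
    exact X_eq_one hab ht
  · intro i x hx t
    obtain ⟨a, b, hab, e⟩ := exists_of_isRoot cs hx
    rw [nel, nc_eD hH, TypeD.eD_eq hH hab e, rep_simple, TypeD.eD_eq hH (hab.sg i) (ee_refl_of e),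
      conj_X' Fr ho (isIso_nX Fr _ _ _) hab (hab.sg i) (nX_sr Fr ho i one_ne_zero a) (nX_sr Fr ho i one_ne_zero b),
      one_zpow, one_zpow, one_mul, one_mul]
  · intro i x hx c hc t
    obtain ⟨a, b, hab, e⟩ := exists_of_isRoot cs hx
    rw [hel, nel, nc_eD hH, nc_eD hH, TypeD.eD_eq hH hab e, TypeD.eD_eq hH hab e,
      conj_X' Fr ho (HForm.IsIso.mul H (isIso_nX Fr _ _ _) (isIso_nX Fr _ _ _)) hab hab (hX_sr Fr ho i hc a)
        (hX_sr Fr ho i hc b), pairing_eq i e, zpow_add₀ hc]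
  · intro x i hx _ _
    obtain ⟨a, b, hab, e⟩ := exists_of_isRoot cs hx
    rw [pairing_eq i e]
    rcases Cf_cases i a with h1 | h1 | h1 <;> rcases Cf_cases i b with h2 | h2 | h2 <;>
      rw [h1.1, h2.1] <;> norm_num
  · intro x i hx hne hne' hc t u
    obtain ⟨a, b, hab, e⟩ := exists_of_isRoot cs hx
    rw [pairing_eq i e] at hc
    rw [commutatorElement_eq_one_iff_commute, TypeD.eD_eq hH hab e, TypeD.eD_eq hH (ok_nx i) (ee_sr i)]
    -- a symmetric statement
    have key : ∀ a b : Fin (n + 2) × Bool, Ok a b → 0 ≤ Cf i (wt a) + Cf i (wt b) → Cf i (wt a) = -1 →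
        Commute (Fr.X a b t) (Fr.X (i, true) (nx i) u) := by
      intro a b hab hc h1
      rcases Cf_cases i a with h3 | h3 | h3
      · rw [h3.1] at h1; norm_num at h1
      · rcases Cf_cases i b with h2 | h2 | h2
        · rcases h3.2 with h4 | h4 <;> rcases h2.2 with h5 | h5
          · exfalso
            subst h4; subst h5
            exact hab rfl
          · subst h4; subst h5
            rw [X_swap' Fr ho hab, X_swap' Fr ho (ok_nx i)]
            exact comm_p Fr ho h0 (ok_nx i).symm t u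
          · subst h4; subst h5
            rw [X_swap' Fr ho hab]
            exact comm_p Fr ho h0 (ok_nx i) t u
          · exfalso
            subst h4; subst h5
            exact hab rfl
        · rw [h3.1, h2.1] at hc; norm_num at hc
        · rw [h3.1, h2.1] at hc; norm_num at hc
      · rw [h3.1] at h1; norm_num at h1
    by_cases h1 : Cf i (wt a) = -1
    · exact key a b hab hc h1
    by_cases h2 : Cf i (wt b) = -1
    · rw [X_swap' Fr ho hab]
      exact key b a hab.symm (by rwa [add_comm]) h2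
    have h3 : ∀ z : Fin (n + 2) × Bool, Cf i (wt z) ≠ -1 → (i, true) ≠ neg z ∧ nx i ≠ neg z := by
      intro z hz
      constructor
      · intro h4
        apply hz
        have h5 : z = ng (i, true) := by rw [h4]; exact (ng_ng z).symm
        rcases Cf_cases i z with h6 | h6 | h6
        · rcases h6.2 with h7 | h7
          · rw [h5] at h7; simp [ng] at h7
          · rw [h5] at h7
            exact absurd (congrArg Prod.fst h7) (ok_nx i)
        · exact h6.1
        · rw [h5] at h6; exact absurd rfl h6.2.1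
      · intro h4
        apply hz
        have h5 : z = ng (nx i) := by rw [h4]; exact (ng_ng z).symm
        rcases Cf_cases i z with h6 | h6 | h6
        · rcases h6.2 with h7 | h7
          · rw [h5] at h7
            exact absurd (congrArg Prod.fst h7).symm (ok_nx i)
          · rw [h5] at h7
            exact absurd h7.symm (by obtain ⟨j, s⟩ := nx i; cases s <;> simp [ng])
        · exact h6.1
        · rw [h5] at h6; exact absurd rfl h6.2.2
    exact Fr.commute_XX (h3 a h1).1 (h3 b h2).1 (h3 a h1).2 (h3 b h2).2 t u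
  · intro x i hx hp _ t u
    obtain ⟨a, b, hab, e⟩ := exists_of_isRoot cs hx
    rw [pairing_eq i e] at hp
    have key : ∀ a b : Fin (n + 2) × Bool, Ok a b → ee x = wt a + wt b → Cf i (wt a) = -1 → Cf i (wt b) = 0 →
        ⁅eD Fr x t, eD Fr (sr i) u⁆ = eD Fr (x + sr i) (t * u) := by
      intro a b hab e h1 h2
      have hb : b.1 ≠ i ∧ b.1 ≠ (nx i).1 := by
        rcases Cf_cases i b with h3 | h3 | h3
        · rw [h3.1] at h2; norm_num at h2
        · rw [h3.1] at h2; norm_num at h2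
        · exact h3.2
      have ha : a = ng (i, true) ∨ a = ng (nx i) := by
        rcases Cf_cases i a with h3 | h3 | h3
        · rw [h3.1] at h1; norm_num at h1
        · exact h3.2
        · rw [h3.1] at h1; norm_num at h1
      rcases ha with rfl | rfl
      · have e1 : ee (x + sr i) = wt b + wt (nx i) := by
          rw [ee_add, e, ee_sr, bt, wt_ng]; abel
        have hok : Ok b (nx i) := hb.2
        rw [TypeD.eD_eq hH hok e1, TypeD.eD_eq hH hab e, TypeD.eD_eq hH (ok_nx i) (ee_sr i), X_swap' Fr ho hab]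
        have := bracket Fr (x := b) (y := ng (i, true)) (z := nx i) hb.1 (ok_nx i) hb.2 t u
        rwa [ng_ng] at this
      · have e1 : ee (x + sr i) = wt b + wt (i, true) := by
          rw [ee_add, e, ee_sr, bt, wt_ng]; abel
        have hok : Ok b (i, true) := hb.1
        rw [TypeD.eD_eq hH hok e1, TypeD.eD_eq hH hab e, TypeD.eD_eq hH (ok_nx i) (ee_sr i), X_swap' Fr ho hab,
          X_swap' Fr ho (ok_nx i)]
        have := bracket Fr (x := b) (y := ng (nx i)) (z := (i, true)) hb.2 (ok_nx i).symm hb.1 t u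
        rwa [ng_ng] at this
    rcases Cf_cases i a with h1 | h1 | h1 <;> rcases Cf_cases i b with h2 | h2 | h2
    · rw [h1.1, h2.1] at hp; norm_num at hp
    · rw [h1.1, h2.1] at hp; norm_num at hp
    · rw [h1.1, h2.1] at hp; norm_num at hp
    · rw [h1.1, h2.1] at hp; norm_num at hp
    · rw [h1.1, h2.1] at hp; norm_num at hp
    · exact key a b hab e h1.1 h2.1
    · rw [h1.1, h2.1] at hp; norm_num at hp
    · exact key b a hab.symm (e.trans (add_comm _ _)) h2.1 h1.1
    · rw [h1.1, h2.1] at hp; norm_num at hp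
  · intro x i hx hp hp' t u
    exfalso
    obtain ⟨a, b, hab, e⟩ := exists_of_isRoot cs hx
    rw [pairing_eq i e] at hp
    have h1 : x = -sr i := by
      apply ee_injective
      rw [e, ee_neg_sr]
      rcases Cf_cases i a with h1 | h1 | h1 <;> rcases Cf_cases i b with h2 | h2 | h2 <;>
        rw [h1.1, h2.1] at hp <;> norm_num at hp
      rcases h1.2 with h3 | h3 <;> rcases h2.2 with h4 | h4
      · subst h3; subst h4; exact absurd rfl hab
      · rw [h3, h4]
      · rw [h3, h4]; exact add_comm _ _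
      · subst h3; subst h4; exact absurd rfl hab
    subst h1
    rw [cpr_neg_right cs (isCartan n) _ (isRoot_sr cs _ i), cpr_self cs _ (isRoot_sr cs _ i)] at hp'
    norm_num at hp'

end Cfsg.Agent.KFacts.SLRow.DData
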