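import Cfsg.Agent.KFacts.SLRow.TypeD
import Cfsg.Agent.KFacts.RgdCent

/-!
# `PΩ⁺_{2m}(q)`, `m ≥ 4`, `q` even: coordinates and simply laced data (helper827)

* `eE W x t` : the root elements of `E Q` (a Witt frame `W` of rank `n + 2` of a hyperbolic form);
* `sysK` : the Steinberg relations of their images, `mem_XD`, `inj_PO`, `card_XD`;
* `isSL_OPlus : IsSL (Nat.card F) m (POmega F (quadFormPlus m F))` (helper158's bundle).
-/

set_option autoImplicit false
set_option linter.unusedSectionVars false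

namespace Cfsg.Agent.KFacts.SLRow.OPlus

open Cfsg
open CoxeterSystem Cfsg.Agent.ChevalleyStructure.CoxeterGeom Cfsg.Agent.Tits.Roots Cfsg.Agent.Tits.Core
  Cfsg.Agent.Tits.RootComb Cfsg.Agent.Nodes.Comb Cfsg.Agent.Nodes.Reps Cfsg.Agent.Nodes.BNOf
  Cfsg.Agent.OddHalf.SL.Index Cfsg.Agent.KFacts.Mult.Laced Cfsg.Agent.KFacts.Mult.LacedRGD
open Cfsg.Agent.Nodes.TypeC (wt wt_apply ng ng_ng ng_fst ng_snd wt_ng)
open Cfsg.Agent.Nodes.TypeD
open Cfsg.Agent.TitsThree Cfsg.Agent.TitsThree.Siegel Cfsg.Agent.TitsThree.WittFrame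
  Cfsg.Agent.TitsThree.WittWeyl Cfsg.Agent.TitsThree.WBridge Cfsg.Agent.TitsThree.SiegelGen
  Cfsg.Agent.TitsThree.FrameCN
open Cfsg.Agent.LieClassical Cfsg.Agent.LieClassical.OrthCore Cfsg.Agent.LieClassical.OrthTrans
open Cfsg.Agent.LieClassical.OrthSimple Cfsg.Agent.LieClassical.OrthFinite
open Cfsg.Agent.LieClassical.OrthForms
open Cfsg.Agent.TitsThree.KSideO Cfsg.Agent.TitsThree.StdData Cfsg.Agent.Nodes.WittInst Cfsg.Agent.Nodes.RGDLib
open Cfsg.Agent.KFacts.SLRow.TypeD Cfsg.Agent.KFacts.SLRow.Def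
open scoped commutatorElement

/-- The image of a system. -/
theorem Sys.map {V K L L' : Type*} [AddCommGroup V] [Field K] [Group L] [Group L'] {B : V → V → ℤ} {Φ : Set V}
    {e : V → K → L} (S : Sys B Φ e) (f : L →* L') : Sys B Φ (fun x t => f (e x t)) where
  roots := S.roots
  add r hr a b := by rw [S.add r hr, map_mul]
  comm r hr s hs hrs a b := by rw [← map_commutatorElement, S.comm r hr s hs hrs]
  one r hr s hs hrs a b := (S.one r hr s hs hrs a b).map f

variable {ι : Type} [Fintype ι] [DecidableEq ι] {F : Type*} [Field F] {Q : QuadraticForm F (ι → F)}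

variable {n : ℕ} (W : WFrame (PO Q) (n + 2))

omit [Fintype ι] [DecidableEq ι] in
theorem hyp (h2 : (2 : F) = 0) (h0 : ∀ p : (toFrame W).Adm, p = 1) : Hyp (toFrame W) :=
  ⟨fun _ => rfl, rfl, h2, h0⟩

omit [Fintype ι] [DecidableEq ι] in
theorem eD_mem (x : Fin (n + 2) → ℤ) (t : F) : eD (toFrame W) x t ∈ E Q := by
  unfold eD
  split_ifs
  · exact X_mem W _ _ _
  · exact one_mem _

/-- The root elements of `E Q`. -/
noncomputable def eE (x : Fin (n + 2) → ℤ) (t : F) : ↥(E Q) := ⟨eD (toFrame W) x t, eD_mem W x t⟩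

variable {W} {C : Type*} [Group C] (cs : CoxeterSystem (M n) C) (h2 : (2 : F) = 0)
  (h0 : ∀ p : (toFrame W).Adm, p = 1) {K : Type*} [Group K] (φ : ↥(E Q) →* K)

include h2 h0

omit [Fintype ι] [DecidableEq ι] in
theorem sysE [Finite C] : Sys (Bf (A n)) {x | IsRoot cs (isCartan n) x} (eE W) :=
  sys_restrict (fun _ _ => rfl) (sysD cs (hyp W h2 h0))

omit [Fintype ι] [DecidableEq ι] in
theorem sysK [Finite C] : Sys (Bf (A n)) {x | IsRoot cs (isCartan n) x} (fun x t => φ (eE W x t)) :=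
  Sys.map (sysE cs h2 h0) φ

omit [Fintype ι] [DecidableEq ι] in
theorem mem_XD {x : Fin (n + 2) → ℤ} (hx : IsRoot cs (isCartan n) x) (g : K) :
    g ∈ XD W φ x ↔ ∃ t, g = φ (eE W x t) := by
  unfold XD
  constructor
  · rintro ⟨k, hk, rfl⟩
    obtain ⟨t, ht⟩ := (mem_rg cs (hyp W h2 h0) hx _).1 (Subgroup.mem_subgroupOf.1 hk)
    exact ⟨t, congrArg φ (Subtype.ext ht)⟩
  · rintro ⟨t, rfl⟩
    exact ⟨_, Subgroup.mem_subgroupOf.2 ((mem_rg cs (hyp W h2 h0) hx _).2 ⟨t, rfl⟩), rfl⟩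

omit [Fintype ι] [DecidableEq ι] in
/-- A root element with central image of rank at least three is trivial. -/
theorem eq_zero_of_center (hn : 1 ≤ n) {x : Fin (n + 2) → ℤ} (hx : IsRoot cs (isCartan n) x) {t : F}
    (h : eE W x t ∈ Subgroup.center ↥(E Q)) : t = 0 := by
  obtain ⟨a, b, hab, e⟩ := exists_of_isRoot cs hx
  obtain ⟨d, hd⟩ : ∃ d : Fin (n + 2), d ∉ ({a.1, b.1} : Finset (Fin (n + 2))) := by
    by_contra hcon
    push Not at hcon
    have h3 := Finset.card_le_card (fun e _ => hcon e : (Finset.univ : Finset (Fin (n + 2))) ⊆ {a.1, b.1})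
    rw [Finset.card_univ, Fintype.card_fin] at h3
    have h4 : ({a.1, b.1} : Finset (Fin (n + 2))).card ≤ 2 := Finset.card_le_two
    omega
  simp only [Finset.mem_insert, Finset.mem_singleton, not_or] at hd
  have had : Ok a (d, true) := fun h => hd.1 h.symm
  have hbd : Ok b (d, true) := fun h => hd.2 h.symm
  have e1 := comm_X (Fr := toFrame W) hab hbd had t 1
  rw [mul_one] at e1
  have e2 := (Subgroup.mem_center_iff.1 h) ⟨(toFrame W).X (ng b) (d, true) 1, X_mem W _ _ _⟩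
  have e3 : (toFrame W).X (ng b) (d, true) 1 * eD (toFrame W) x t = eD (toFrame W) x t * (toFrame W).X (ng b) (d, true) 1 :=
    congrArg Subtype.val e2
  rw [eD_eq (hyp W h2 h0) hab e] at e3
  rw [commutatorElement_eq_one_iff_mul_comm.2 e3.symm] at e1
  exact X_eq_one had e1.symm

omit [Fintype ι] [DecidableEq ι] in
theorem inj_K (hφ : φ.ker ≤ Subgroup.center ↥(E Q)) (hn : 1 ≤ n) {x : Fin (n + 2) → ℤ}
    (hx : IsRoot cs (isCartan n) x) {t : F} (h : φ (eE W x t) = 1) : t = 0 :=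
  eq_zero_of_center cs h2 h0 hn hx (hφ h)

omit [Fintype ι] [DecidableEq ι] in
theorem card_XD [Finite C] (hφ : φ.ker ≤ Subgroup.center ↥(E Q)) (hn : 1 ≤ n) {x : Fin (n + 2) → ℤ}
    (hx : IsRoot cs (isCartan n) x) : Nat.card ↥(XD W φ x) = Nat.card F := by
  have S := sysK cs h2 h0 φ
  refine (Nat.card_congr (Equiv.ofBijective
    (fun t : F => (⟨φ (eE W x t), (mem_XD cs h2 h0 φ hx _).2 ⟨t, rfl⟩⟩ : ↥(XD W φ x)))
    ⟨fun t u htu => ?_, ?_⟩)).symm
  · have h3 : φ (eE W x t) = φ (eE W x u) := congrArg Subtype.val htu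
    have h4 := S.add x hx t (-u)
    have h5 := S.add x hx u (-u)
    rw [add_neg_cancel, S.zero hx] at h5
    have h6 : φ (eE W x (t + -u)) = 1 := by
      rw [h4, h5]
      exact congrArg (· * φ (eE W x (-u))) h3
    exact add_neg_eq_zero.1 (inj_K cs h2 h0 φ hφ hn hx h6)
  · rintro ⟨g, hg⟩
    obtain ⟨t, rfl⟩ := (mem_XD cs h2 h0 φ hx _).1 hg
    exact ⟨t, rfl⟩

omit h2 h0 in
/-- The diagram is connected. -/
theorem conn_D {n : ℕ} (hn : 1 ≤ n) : Conn (M n) := by
  refine conn_of_parent (fun i => (i : ℕ)) (fun i => ⟨if (i : ℕ) = n + 1 then n - 1 else (i : ℕ) - 1, by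
    have := i.2
    split_ifs <;> omega⟩) ?_ ?_ ?_
  · intro i j hi hj
    exact Fin.ext (by omega)
  · intro i hi
    show (if (i : ℕ) = n + 1 then n - 1 else (i : ℕ) - 1) < i
    split_ifs <;> omega
  · intro i hi
    have := i.2
    rw [M_apply]
    unfold Cfsg.Agent.Nodes.TypeD.Adj
    simp only [Fin.ext_iff]
    split_ifs <;> omega

omit h2 h0 in
theorem good_plus {n : ℕ} (hn : 1 ≤ n) (F : Type*) [Field F] [Finite F] : Good (plusForm (n + 2) F) := by
  apply good_of_finite (nondeg_plusForm (n + 2) F)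
  rw [Module.finrank_fintype_fun_eq_card, Fintype.card_sum, Fintype.card_fin]
  omega

omit h2 h0 in
/-- **`PΩ⁺_{2m}(q)`, `m ≥ 4`, `q` even: simply laced data.** -/
theorem isSL_OPlus {m : ℕ} (hm : 4 ≤ m) (F : Type*) [Field F] [Finite F] (h2 : (2 : F) = 0) :
    IsSL (Nat.card F) m (Cfsg.POmega F (Cfsg.quadFormPlus m F)) := by
  obtain ⟨n, rfl⟩ : ∃ n, m = n + 2 := ⟨m - 2, by omega⟩
  have : Fact (Nat.Prime 2) := ⟨Nat.prime_two⟩
  have : CharP F 2 := charP_two h2
  have : Fintype F := Fintype.ofFinite F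
  rw [← coe_plusForm]
  have hG : Good (plusForm (n + 2) F) := good_plus (by omega) F
  have hW : Finite (M n).Group := finite_W (M n).toCoxeterSystem
  have hs : IsSimpleGroup (Cfsg.POmega F ⇑(plusForm (n + 2) F)) := by
    apply OrthFinite.isSimpleGroup_POmega (nondeg_plusForm (n + 2) F)
    rw [Fintype.card_sum, Fintype.card_fin]
    omega
  have R := rgdD_model (wplus (n + 2) F) hG (amb_plus _) (adm_plus _) (p := 2) (M n).toCoxeterSystem
  have hgen := G1D_eq_top (wplus (n + 2) F) (toPOmega hG) (toPOmega_surjective hG) (adm_plus _) (M n).toCoxeterSystem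
  refine ⟨M n, A n, isCartan n, _, _, _, hW, R, le_top, hgen, ?_, conn_D (by omega), by rw [Fintype.card_fin]; omega,
    fun i j => (M_ne i j).1, fun i j => (M_ne i j).2, fun x hx => ?_⟩
  · refine RgdCent.noCent_of_center R hgen ?_
    rcases hs.eq_bot_or_eq_top_of_normal (Subgroup.center (Cfsg.POmega F ⇑(plusForm (n + 2) F))) inferInstance
      with h3 | h3
    · exact h3
    · exfalso
      have S := sysK (M n).toCoxeterSystem h2 (adm_plus (F := F) (n + 2)) (toPOmega hG)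
      have hR := S.roots
      have hr : sr (⟨0, by omega⟩ : Fin (n + 2)) ∈ {x | IsRoot (M n).toCoxeterSystem (isCartan n) x} :=
        isRoot_sr _ _ _
      obtain ⟨s, hs1, hs2⟩ := exists_one (fun i j => (M_ne i j).1) (fun i j => (M_ne i j).2) (conn_D (by omega))
        (by rw [Fintype.card_fin]; omega) hr
      have hs3 := hR.neg_mem s hs1
      have hs4 : Bf (A n) (-s) (sr (⟨0, by omega⟩ : Fin (n + 2))) = -1 := by rw [hR.neg_left, hs2]
      have h4 := S.comm _ hs3 _ hr hs4 1 1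
      rw [mul_one] at h4
      have h5 := inj_K _ h2 (adm_plus _) (toPOmega hG) (ker_toPOmega hG) (by omega) (hR.add _ hs3 _ hr hs4)
        (t := 1) (h4.symm.trans (commutatorElement_eq_one_iff_mul_comm.2
          (Subgroup.mem_center_iff.1 (h3 ▸ Subgroup.mem_top _) _)))
      exact one_ne_zero h5
  · exact card_XD _ h2 (adm_plus _) _ (ker_toPOmega hG) (by omega) hx

end Cfsg.Agent.KFacts.SLRow.OPlus
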