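import Cfsg.Agent.Nodes.RGDTypeA
import Cfsg.Agent.Nodes.CommA
import Cfsg.Agent.KFacts.ChevTwo

/-!
# `SL_{n+1}(F)` and `PSL_{n+1}(F)`, `char F = 2`, as Chevalley groups of characteristic two (K-facts, S1765, D7)

* `eA x t` : the root element of `SL_{n+1}(F)`; `eA_rtA` : `eA (rtA a b) t = 1 + t E_ab`;
* `data_SL`, `data_PSL` : instances of `ChevTwo.Data`.
-/

set_option autoImplicit false
set_option linter.unusedSectionVars false

namespace Cfsg.Agent.KFacts.SLRow.TypeA

open Matrix CoxeterSystem Cfsg.Agent.ChevalleyStructure.CoxeterGeom Cfsg.Agent.Tits.Roots Cfsg.Agent.Tits.Core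
  Cfsg.Agent.Nodes.Reps Cfsg.Agent.Nodes.BNOf Cfsg.Agent.Nodes.Coroot
  Cfsg.Agent.Nodes.RGDLib Cfsg.Agent.Nodes.RootsA Cfsg.Agent.Nodes.RGDTypeA Cfsg.Agent.Nodes.CommA
  Cfsg.Agent.KFacts.ChevTwo
open Cfsg.Agent.LieRecognition.BNCox (cA)
open Cfsg.Agent.LieClassical.SLGen
open Cfsg.Agent.TitsThree.KSideA (tv tv_of_ne tv_add tv_zero tv_neg tv_comm tv_commute diag2n_eq)
open scoped commutatorElement

section map

variable {I W Y Y' K : Type*} [Fintype I] [DecidableEq I] [Group W] [Group Y] [Group Y'] [Field K]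
  {M : CoxeterMatrix I} {cs : CoxeterSystem M W} {A : I → I → ℤ} {h : IsCartan M A} {e : (I → ℤ) → K → Y}

/-- Transport along a homomorphism injective on the root groups. -/
theorem data_map (D : Data cs h e) (f : Y →* Y') (hf : ∀ x, IsRoot cs h x → ∀ t, f (e x t) = 1 → e x t = 1) :
    Data cs h (fun x t => f (e x t)) := by
  have hn : ∀ x c, nc (fun x t => f (e x t)) x c = f (nc e x c) := fun x c => by
    rw [nc_def, nc_def, map_mul, map_mul]
  have hnel : ∀ x, nel (fun x t => f (e x t)) x = f (nel e x) := fun x => hn x 1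
  have hh : ∀ x c, hel (fun x t => f (e x t)) x c = f (hel e x c) := fun x c => by
    rw [hel_def, hel_def, map_mul, hn, hnel]
  refine ⟨D.two, ?_, ?_, ?_, ?_, D.lace, ?_, ?_, ?_⟩
  · intro x hx t u
    show f _ = f _ * f _
    rw [D.add x hx, map_mul]
  · intro x hx t ht
    exact D.inj x hx t (hf x hx t ht)
  · intro i x hx t
    rw [hnel, ← map_inv, ← map_mul, ← map_mul, D.refl i x hx]
  · intro i x hx c hc t
    rw [hh, ← map_inv, ← map_mul, ← map_mul, D.tor i x hx c hc]
  · intro x y hx hy h1 h2 h3 t u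
    rw [← map_commutatorElement, D.comm0 x y hx hy h1 h2 h3, map_one]
  · intro x y hx hy h1 h2 t u
    rw [← map_commutatorElement, D.comm1 x y hx hy h1 h2]
  · intro x y hx hy h1 h2 t u
    rw [← map_commutatorElement, D.comm2 x y hx hy h1 h2, map_mul]

end map

variable {n : ℕ} {F : Type*} [Field F]

/-- The root element with label `x`. -/
noncomputable def eA (x : Fin n → ℤ) (t : F) : SpecialLinearGroup (Fin (n + 1)) F := by
  classical
  exact if hx : ∃ z : Fin (n + 1) × Fin (n + 1), z.1 ≠ z.2 ∧ rtA z.1 z.2 = x then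
    tv hx.choose.1 hx.choose.2 t else 1

theorem eA_rtA {a b : Fin (n + 1)} (hab : a ≠ b) (t : F) : eA (rtA a b) t = tv a b t := by
  unfold eA
  have hx : ∃ z : Fin (n + 1) × Fin (n + 1), z.1 ≠ z.2 ∧ rtA z.1 z.2 = rtA a b := ⟨(a, b), hab, rfl⟩
  rw [dif_pos hx]
  obtain ⟨h1, h2⟩ := rtA_inj hx.choose_spec.1 hx.choose_spec.2
  rw [h1, h2]

variable (h2 : ∀ t : F, t + t = 0)

include h2

theorem neg_self (t : F) : -t = t := neg_eq_of_add_eq_zero_left (h2 t)

theorem nc_eA (i : Fin n) (c : F) : nc (eA (F := F)) (sr i) c = nn i.castSucc i.succ c := by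
  have hi : i.castSucc ≠ i.succ := (Fin.castSucc_lt_succ).ne
  rw [nc_def, nn, ← rtA_sr, rtA_neg, eA_rtA hi, eA_rtA hi.symm, neg_self h2]

theorem nn_entry {a b : Fin (n + 1)} (hab : a ≠ b) {c : F} (hc : c ≠ 0) (j : Fin (n + 1)) :
    (nn a b c).1 (Equiv.swap a b j) j = if j = b then c else if j = a then c⁻¹ else 1 := by
  rw [apply_eq_smul, nn_smul hab hc]
  by_cases h1 : j = b
  · subst h1
    rw [Equiv.swap_apply_right, if_pos rfl, if_pos rfl, Pi.single_eq_same, mul_one]
  · by_cases h3 : j = a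
    · subst h3
      rw [Equiv.swap_apply_left, if_neg (fun e => hab e.symm), if_pos rfl, if_neg h1, if_pos rfl, Pi.single_eq_same,
        mul_one, neg_self h2]
    · rw [Equiv.swap_apply_of_ne_of_ne h3 h1, if_neg h3, if_neg h1, if_neg h1, if_neg h3, Pi.single_eq_same]

theorem nn_conj {a b x y : Fin (n + 1)} (hab : a ≠ b) (hxy : x ≠ y) {c : F} (hc : c ≠ 0) (t : F) :
    nn a b c * tv x y t * (nn a b c)⁻¹ = tv (Equiv.swap a b x) (Equiv.swap a b y)
      ((if x = b then c else if x = a then c⁻¹ else 1) * t * (if y = b then c else if y = a then c⁻¹ else 1)⁻¹) := by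
  rw [(mono_nn hab hc).conj_tv hxy, nn_entry h2 hab hc, nn_entry h2 hab hc]

theorem nn_one_conj {a b x y : Fin (n + 1)} (hab : a ≠ b) (hxy : x ≠ y) (t : F) :
    nn a b (1 : F) * tv x y t * (nn a b (1 : F))⁻¹ = tv (Equiv.swap a b x) (Equiv.swap a b y) t := by
  rw [nn_conj h2 hab hxy one_ne_zero]
  congr 1
  simp

theorem hel_conj {a b x y : Fin (n + 1)} (hab : a ≠ b) (hxy : x ≠ y) {c : F} (hc : c ≠ 0) (t : F) :
    (nn a b c * nn a b 1) * tv x y t * (nn a b c * nn a b 1)⁻¹ =
      tv x y (c ^ ((if x = a then 1 else 0) - (if x = b then 1 else 0) -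
      ((if y = a then 1 else 0) - (if y = b then 1 else 0) : ℤ)) * t) := by
  have hxy' : Equiv.swap a b x ≠ Equiv.swap a b y := fun e => hxy ((Equiv.injective _) e)
  have e1 : (nn a b c * nn a b 1) * tv x y t * (nn a b c * nn a b 1)⁻¹ =
      nn a b c * (nn a b 1 * tv x y t * (nn a b (1 : F))⁻¹) * (nn a b c)⁻¹ := by group
  rw [e1, nn_one_conj h2 hab hxy, nn_conj h2 hab hxy' hc, Equiv.swap_apply_self, Equiv.swap_apply_self]
  congr 1
  have key : ∀ z : Fin (n + 1), (if Equiv.swap a b z = b then c else if Equiv.swap a b z = a then c⁻¹ else 1) =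
      c ^ ((if z = a then 1 else 0) - (if z = b then 1 else 0) : ℤ) := by
    intro z
    by_cases h1 : z = a
    · subst h1
      rw [Equiv.swap_apply_left, if_pos rfl, if_pos rfl, if_neg hab, sub_zero, zpow_one]
    · by_cases h3 : z = b
      · subst h3
        rw [Equiv.swap_apply_right, if_neg hab, if_pos rfl, if_neg h1, if_pos rfl, zero_sub, _root_.zpow_neg, zpow_one]
      · rw [Equiv.swap_apply_of_ne_of_ne h1 h3, if_neg h3, if_neg h1, if_neg h1, if_neg h3, sub_zero, zpow_zero]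
  rw [key, key, zpow_sub₀ hc _ ((if y = a then 1 else 0) - (if y = b then 1 else 0) : ℤ), div_eq_mul_inv]
  ring

variable {W : Type*} [Group W] [Finite W] (cs : CoxeterSystem (cA n) W) {A : Fin n → Fin n → ℤ}
  (h : IsCartan (cA n) A)

/-- **`SL_{n+1}(F)`, `char F = 2`.** -/
theorem data_SL : Data cs h (eA (F := F)) := by
  have hs : ∀ i : Fin n, i.castSucc ≠ i.succ := fun i => (Fin.castSucc_lt_succ).ne
  refine Data.mk' h2 ?_ ?_ ?_ ?_ ?_ ?_ ?_ ?_
  · intro x hx t u
    obtain ⟨a, b, hab, rfl⟩ := exists_of_isRoot cs h hx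
    rw [eA_rtA hab, eA_rtA hab, eA_rtA hab, tv_add]
  · intro x hx t ht
    obtain ⟨a, b, hab, rfl⟩ := exists_of_isRoot cs h hx
    rw [eA_rtA hab, ← tv_zero a b] at ht
    exact tv_inj hab ht
  · intro i x hx t
    obtain ⟨a, b, hab, rfl⟩ := exists_of_isRoot cs h hx
    rw [nel, nc_eA h2, eA_rtA hab, nn_one_conj h2 (hs i) hab, rep_simple_rtA,
      eA_rtA (fun e => hab ((Equiv.injective _) e))]
  · intro i x hx c hc t
    obtain ⟨a, b, hab, rfl⟩ := exists_of_isRoot cs h hx
    rw [hel, nel, nc_eA h2, nc_eA h2, eA_rtA hab, hel_conj h2 (hs i) hab hc, pairing_rtA h, eA_rtA hab]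
  · intro x i hx _ _
    obtain ⟨a, b, hab, rfl⟩ := exists_of_isRoot cs h hx
    rw [pairing_rtA h]
    split_ifs <;> norm_num
  · intro x i hx h1 h3 h0 t u
    obtain ⟨a, b, hab, rfl⟩ := exists_of_isRoot cs h hx
    rw [pairing_rtA h] at h0
    have hb : b ≠ i.castSucc := by
      rintro rfl
      rw [if_neg hab, if_pos rfl, if_neg (hs i)] at h0
      split_ifs at h0 <;> omega
    have ha : a ≠ i.succ := by
      rintro rfl
      rw [if_neg (hs i).symm, if_pos rfl, if_neg hb, if_neg (fun e => hab e.symm)] at h0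
      omega
    rw [eA_rtA hab, ← rtA_sr, eA_rtA (hs i), commutatorElement_eq_one_iff_commute]
    exact tv_commute hb ha _ _
  · intro x i hx h1 h3 t u
    obtain ⟨a, b, hab, rfl⟩ := exists_of_isRoot cs h hx
    rw [pairing_rtA h] at h1
    rw [← rtA_sr, cpr_rtA cs h _ _ hab] at h3
    by_cases hb : b = i.castSucc
    · subst hb
      have ha : a ≠ i.succ := by
        rintro rfl
        rw [if_neg (hs i).symm, if_pos rfl, if_pos rfl, if_neg (hs i)] at h1
        omega
      rw [eA_rtA hab, ← rtA_sr, eA_rtA (hs i), tv_comm hab (hs i) ha, rtA_add, eA_rtA ha]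
    · have ha : a = i.succ := by
        by_contra ha
        rw [if_neg ha, if_neg hb] at h1
        split_ifs at h1 <;> omega
      subst ha
      have hib : i.castSucc ≠ b := fun e => hb e.symm
      have e1 : rtA i.succ b + sr i = rtA i.castSucc b := by rw [← rtA_sr, add_comm (rtA _ _), rtA_add]
      rw [eA_rtA hab, e1, ← rtA_sr, eA_rtA (hs i), eA_rtA hib, ← commutatorElement_inv,
        tv_comm (hs i) hab hib, ← tv_neg, neg_self h2, mul_comm]
  · intro x i hx h1 h3 t u
    exfalso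
    obtain ⟨a, b, hab, rfl⟩ := exists_of_isRoot cs h hx
    rw [pairing_rtA h] at h1
    rw [← rtA_sr, cpr_rtA cs h _ _ hab] at h3
    have hi := hs i
    have hb : b = i.castSucc := by
      by_contra hb
      rw [if_neg hb] at h1
      split_ifs at h1 <;> omega
    subst hb
    rw [if_neg hab, if_pos rfl, if_neg hi] at h1
    have ha : a = i.succ := by
      by_contra ha
      rw [if_neg ha] at h1
      omega
    subst ha
    rw [if_neg hi, if_pos rfl, if_pos rfl, if_neg hi.symm] at h3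
    omega

theorem not_mem_center {a b : Fin (n + 1)} (hab : a ≠ b) {t : F}
    (ht : tv a b t ∈ Subgroup.center (SpecialLinearGroup (Fin (n + 1)) F)) : tv a b t = 1 := by
  have h1 := Subgroup.mem_center_iff.1 ht (tv b a 1)
  have h3 : (tv b a 1 * tv a b t).1 b b = (tv a b t * tv b a (1 : F)).1 b b := by rw [h1]
  have e1 : (tv b a 1 * tv a b t).1 b b = 1 + t := by
    show ((tv b a (1 : F)).1 * (tv a b t).1) b b = _
    rw [tv_val hab.symm, tv_val hab, add_mul, mul_add, mul_add]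
    simp [Matrix.add_apply, hab]
  have e2 : (tv a b t * tv b a (1 : F)).1 b b = 1 := by
    show ((tv a b t).1 * (tv b a (1 : F)).1) b b = _
    rw [tv_val hab.symm, tv_val hab, add_mul, mul_add, mul_add]
    simp [Matrix.add_apply, hab]
  rw [e1, e2, add_eq_left] at h3
  rw [h3, tv_zero]

/-- **`PSL_{n+1}(F)`, `char F = 2`.** -/
theorem data_PSL : Data cs h (fun x t => pr n F (eA x t)) := by
  refine data_map (data_SL h2 cs h) (pr n F) ?_
  intro x hx t ht
  obtain ⟨a, b, hab, rfl⟩ := exists_of_isRoot cs h hx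
  rw [eA_rtA hab] at ht ⊢
  refine not_mem_center h2 hab ?_
  rw [← ker_pr]
  exact ht

omit h2 in
theorem mem_X_iff {x : Fin n → ℤ} (hx : IsRoot cs h x) (g : SpecialLinearGroup (Fin (n + 1)) F) :
    g ∈ X F x ↔ ∃ t, eA x t = g := by
  obtain ⟨a, b, hab, rfl⟩ := exists_of_isRoot cs h hx
  rw [X_rtA hab, mem_XX]
  constructor
  · rintro ⟨t, rfl⟩; exact ⟨t, eA_rtA hab t⟩
  · rintro ⟨t, rfl⟩; exact ⟨t, (eA_rtA hab t).symm⟩

end Cfsg.Agent.KFacts.SLRow.TypeA
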