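import Cfsg.Agent.KFacts.SLRow.DData
import Cfsg.Agent.KFacts.SLRow.OPlus
import Cfsg.Agent.KFacts.ChevTwoSys
import Cfsg.Agent.KFacts.SLRow.TypeA

/-!
# `PΩ⁺_{2m}(q)`, `q` even: `ChevTwo.Sys` (K-facts for S1765, D7)

* `data_of_map` : `ChevTwo.Data` lifts along an injective homomorphism;
* `data_E`, `data_K` : the root elements `eE` of `E Q` and their images;
* `exists_chi` : the character of an element of the torus;
* `sys_D` : `Sys (rgdD_model ..)`, `sys_OPlus`.
-/

set_option autoImplicit false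
set_option linter.unusedSectionVars false

namespace Cfsg.Agent.KFacts.SLRow.DSys

open Cfsg
open CoxeterSystem Cfsg.Agent.ChevalleyStructure.CoxeterGeom Cfsg.Agent.Tits.Roots Cfsg.Agent.Tits.Core
  Cfsg.Agent.Nodes.Reps Cfsg.Agent.Nodes.BNOf Cfsg.Agent.Nodes.RGDLib Cfsg.Agent.KFacts.SLRow.Def
  Cfsg.Agent.Nodes.Coroot Cfsg.Agent.KFacts.ChevTwo Cfsg.Agent.KFacts.SLRow.DData
open Cfsg.Agent.KFacts.SLRow.TypeD (Hyp eD X_eq_one)
open Cfsg.Agent.Nodes.TypeC (wt ng ng_ng ng_fst wt_ng wt_apply)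
open Cfsg.Agent.Nodes.TypeD
open Cfsg.Agent.Nodes.WittRoot (Amb Mono)
open Cfsg.Agent.Nodes.WittRGD (Tor)
open Cfsg.Agent.TitsThree Cfsg.Agent.TitsThree.Siegel Cfsg.Agent.TitsThree.SiegelGen
  Cfsg.Agent.TitsThree.WittFrame Cfsg.Agent.TitsThree.WittWeyl Cfsg.Agent.TitsThree.WBridge
open Cfsg.Agent.LieClassical Cfsg.Agent.LieClassical.OrthCore Cfsg.Agent.LieClassical.OrthTrans
open Cfsg.Agent.LieClassical.OrthSimple Cfsg.Agent.LieClassical.OrthFinite
open Cfsg.Agent.LieClassical.OrthForms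
open Cfsg.Agent.TitsThree.KSideO Cfsg.Agent.TitsThree.StdData Cfsg.Agent.Nodes.WittInst
  Cfsg.Agent.KFacts.SLRow.OPlus
open scoped commutatorElement

section lift

variable {I W Y Y' K : Type*} [Fintype I] [DecidableEq I] [Group W] [Group Y] [Group Y'] [Field K]
  {M : CoxeterMatrix I} {cs : CoxeterSystem M W} {A : I → I → ℤ} {h : IsCartan M A} {e : (I → ℤ) → K → Y}

/-- Lifting along an injective homomorphism. -/
theorem data_of_map (f : Y →* Y') (hf : Function.Injective f) (D : Data cs h (fun x t => f (e x t))) :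
    Data cs h e := by
  have hn : ∀ x c, nc (fun x t => f (e x t)) x c = f (nc e x c) := fun x c => by
    rw [nc_def, nc_def, map_mul, map_mul]
  have hnel : ∀ x, nel (fun x t => f (e x t)) x = f (nel e x) := fun x => hn x 1
  have hh : ∀ x c, hel (fun x t => f (e x t)) x c = f (hel e x c) := fun x c => by
    rw [hel_def, hel_def, map_mul, hn, hnel]
  refine ⟨D.two, ?_, ?_, ?_, ?_, D.lace, ?_, ?_, ?_⟩
  · intro x hx t u
    apply hf
    rw [map_mul]
    exact D.add x hx t u
  · intro x hx t ht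
    exact D.inj x hx t (by show f _ = 1; rw [ht, map_one])
  · intro i x hx t
    apply hf
    rw [map_mul, map_mul, map_inv, ← hnel]
    exact D.refl i x hx t
  · intro i x hx c hc t
    apply hf
    rw [map_mul, map_mul, map_inv, ← hh]
    exact D.tor i x hx c hc t
  · intro x y hx hy h1 h2 h3 t u
    apply hf
    rw [map_commutatorElement, map_one]
    exact D.comm0 x y hx hy h1 h2 h3 t u
  · intro x y hx hy h1 h2 t u
    apply hf
    rw [map_commutatorElement]
    exact D.comm1 x y hx hy h1 h2 t u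
  · intro x y hx hy h1 h2 t u
    apply hf
    rw [map_commutatorElement, map_mul]
    exact D.comm2 x y hx hy h1 h2 t u

end lift

/-! ### The character of an element of the torus -/

section Chi

variable {F V : Type*} [Field F] [AddCommGroup V] [Module F V] {H : HForm F V} {n : ℕ} {Fr : Frame H (Fin (n + 2))}
  {G : Type*} [Group G] (cs : CoxeterSystem (M n) G)

theorem exists_chi (hH : Hyp Fr) {t : V ≃ₗ[F] V} (hI : H.IsIso t) (hm : Mono Fr t id) :
    ∃ χ : (Fin (n + 2) → ℤ) →+ Additive Fˣ, ∀ x, IsRoot cs (isCartan n) x → ∀ u : F,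
      t * eD Fr x u * t⁻¹ = eD Fr x (((χ x).toMul : Fˣ) * u) := by
  have ho := orth2_of_hyp hH
  choose l hl0 hl using hm
  -- the scalars of opposite vectors are inverse
  have hinv : ∀ z, l z * l (ng z) = 1 := by
    intro z
    have h1 := hI (Fr.b z) (Fr.b (neg z))
    have h2 : t (Fr.b z) = l z • Fr.b z := hl z
    have h3 : t (Fr.b (neg z)) = l (ng z) • Fr.b (neg z) := hl (ng z)
    rw [h2, h3, H.smul_left, H.smul_right, Fr.hb_self_neg, η_eq Fr ho, mul_one, hH.sig] at h1
    exact h1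
  let v : Fin (n + 2) → Fˣ := fun k => Units.mk0 (l (k, true)) (hl0 _)
  let χ : (Fin (n + 2) → ℤ) →+ Additive Fˣ :=
    { toFun := fun x => ∑ k, ee x k • Additive.ofMul (v k)
      map_zero' := Finset.sum_eq_zero fun k _ => by
        have h1 : ee (0 : Fin (n + 2) → ℤ) = 0 := by
          have := ee_smul (n := n) 0 0
          rwa [zero_smul, zero_smul] at this
        rw [h1, Pi.zero_apply, zero_smul]
      map_add' := fun x y => by
        rw [← Finset.sum_add_distrib]
        exact Finset.sum_congr rfl fun k _ => by rw [ee_add, Pi.add_apply]; exact add_zsmul _ _ _ }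
  have hwt : ∀ a : Fin (n + 2) × Bool, ((∑ k, wt a k • Additive.ofMul (v k)).toMul : Fˣ) = l a := by
    intro a
    rw [Finset.sum_eq_single a.1]
    · obtain ⟨k, s⟩ := a
      rw [wt_apply, if_pos rfl]
      cases s
      · have h1 := hinv (k, true)
        rw [if_neg Bool.false_ne_true, neg_smul, one_smul, toMul_neg, toMul_ofMul, Units.val_inv_eq_inv_val]
        exact (eq_inv_of_mul_eq_one_right h1).symm
      · rw [if_pos rfl, one_smul, toMul_ofMul]
        rfl
    · intro k _ hk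
      rw [wt_apply, if_neg hk, zero_smul]
    · intro hk; exact absurd (Finset.mem_univ _) hk
  refine ⟨χ, fun x hx u => ?_⟩
  obtain ⟨a, b, hab, e⟩ := exists_of_isRoot cs hx
  have h1 : ((χ x).toMul : Fˣ) = l a * l b := by
    show (((∑ k, ee x k • Additive.ofMul (v k)).toMul : Fˣ) : F) = _
    rw [e]
    have h2 : ∑ k, (wt a + wt b) k • Additive.ofMul (v k) =
        ∑ k, wt a k • Additive.ofMul (v k) + ∑ k, wt b k • Additive.ofMul (v k) := by
      rw [← Finset.sum_add_distrib]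
      exact Finset.sum_congr rfl fun k _ => add_zsmul _ _ _
    rw [h2, toMul_add, Units.val_mul, hwt, hwt]
  rw [TypeD.eD_eq hH hab e, TypeD.eD_eq hH hab e, conj_X' Fr ho hI hab hab (hl a) (hl b), h1]

end Chi

/-! ### `PΩ` -/

section POm

variable {ι : Type} [Fintype ι] [DecidableEq ι] {F : Type*} [Field F] {Q : QuadraticForm F (ι → F)}
  {n : ℕ} {W : WFrame (PO Q) (n + 2)} {C : Type*} [Group C] (cs : CoxeterSystem (M n) C) (h2 : (2 : F) = 0)
  (h0 : ∀ p : (toFrame W).Adm, p = 1)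

include h2 h0

theorem data_E [Finite C] : Data cs (isCartan n) (eE W) :=
  data_of_map (E Q).subtype Subtype.val_injective (data_D cs (hyp W h2 h0))

variable {K : Type*} [Group K] (φ : ↥(E Q) →* K)

theorem data_K [Finite C] (hφ : φ.ker ≤ Subgroup.center ↥(E Q)) (hn : 1 ≤ n) :
    Data cs (isCartan n) (fun x t => φ (eE W x t)) := by
  refine TypeA.data_map (data_E cs h2 h0) φ fun x hx t ht => ?_
  have h3 := inj_K cs h2 h0 φ hφ hn hx ht
  subst h3
  exact (data_E cs h2 h0).zero hx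

omit cs in
theorem nel_eE (i : Fin (n + 2)) :
    ((nel (eE W) (sr i) : ↥(E Q)) : (ι → F) ≃ₗ[F] (ι → F)) = Cfsg.Agent.Nodes.WittRGDD.nn (toFrame W) i := by
  have h1 : ((nel (eE W) (sr i) : ↥(E Q)) : (ι → F) ≃ₗ[F] (ι → F)) = nel (eD (toFrame W)) (sr i) := by
    rw [nel_def, nel_def, Subgroup.coe_mul, Subgroup.coe_mul]
    rfl
  rw [h1]
  exact nc_eD (hyp W h2 h0) i 1

/-- **`ChevTwo.Sys` of `PΩ` of a hyperbolic form, characteristic two.** -/
theorem sys_D [Finite F] [Finite C] (hG : Good Q) (hA : Amb (toFrame W) (E Q)) [Fact (Nat.Prime 2)] [CharP F 2]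
    (hn : 1 ≤ n) : Sys (rgdD_model W hG hA h0 (p := 2) cs) (fun x t => toPOmega hG (eE W x t)) where
  data := data_K cs h2 h0 (toPOmega hG) (ker_toPOmega hG) hn
  mem_X x hx g := by
    rw [mem_XD cs h2 h0 (toPOmega hG) hx]
    exact ⟨fun ⟨t, ht⟩ => ⟨t, ht.symm⟩, fun ⟨t, ht⟩ => ⟨t, ht.symm⟩⟩
  n_eq i := by
    have h1 : nel (fun x t => toPOmega hG (eE W x t)) (sr i) = toPOmega hG (nel (eE W) (sr i)) := by
      rw [nel_def, nel_def, map_mul, map_mul]
    rw [h1]
    exact congrArg (toPOmega hG) (Subtype.ext (nel_eE h2 h0 i).symm)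
  chi := by
    rintro _ ⟨⟨t, htE⟩, ht, rfl⟩
    have ht' : t ∈ Tor (toFrame W) (E Q) := Subgroup.mem_subgroupOf.1 ht
    obtain ⟨χ, hχ⟩ := exists_chi cs (hyp W h2 h0) (hA.iso t htE) ht'.2
    refine ⟨χ, fun x hx u => ?_⟩
    rw [← map_mul, ← map_inv, ← map_mul]
    congr 1
    exact Subtype.ext (hχ x hx u)

omit h2 h0 in
/-- **`PΩ⁺_{2m}(q)`, `m = n + 2 ≥ 3`, `q` even.** -/
theorem sys_OPlus {C : Type*} [Group C] [Finite C] (F : Type*) [Field F] [Finite F] [Fact (Nat.Prime 2)] [CharP F 2]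
    {n : ℕ} (hn : 1 ≤ n) (cs : CoxeterSystem (M n) C) :
    Sys (rgdD_model (wplus (n + 2) F) (good_plus hn F) (amb_plus _) (adm_plus _) (p := 2) cs)
      (fun x t => toPOmega (good_plus hn F) (eE (wplus (n + 2) F) x t)) :=
  sys_D cs (CharTwo.two_eq_zero) (adm_plus (n + 2)) (good_plus hn F) (amb_plus (n + 2)) hn

end POm

end Cfsg.Agent.KFacts.SLRow.DSys
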