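import Cfsg.Agent.LieRecognition.BNCox
import Cfsg.Agent.Nodes.TypeD
import Mathlib.GroupTheory.PGroup
import Mathlib.GroupTheory.Perm.Fin

/-!
# 2-groups of diagram symmetries (K-facts for S1765, D7)

`DTwo M` : a 2-group of symmetries of the diagram `M` has order at most two [= `D7Out.Outer.DiagTwo`];
`dTwo_A`, `dTwo_D` (`n ≥ 2`), `dTwo_E6`, `dTwo_E7`, `dTwo_E8`.
-/

set_option autoImplicit false
set_option linter.unusedSectionVars false

namespace Cfsg.Agent.KFacts.SLRow.Diag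

/-- 2-groups of diagram symmetries have order at most two -/
def DTwo {I : Type*} (M : CoxeterMatrix I) : Prop :=
  ∀ P : Subgroup (Equiv.Perm I), IsPGroup 2 P → (∀ σ ∈ P, ∀ i j, M (σ i) (σ j) = M i j) →
    ∀ σ ∈ P, ∀ τ ∈ P, σ ≠ 1 → τ ≠ 1 → σ = τ

theorem dTwo_of_unique {I : Type*} {M : CoxeterMatrix I}
    (h : ∀ σ τ : Equiv.Perm I, (∀ i j, M (σ i) (σ j) = M i j) → (∀ i j, M (τ i) (τ j) = M i j) → σ ≠ 1 → τ ≠ 1 →
      σ = τ) : DTwo M :=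
  fun _ _ hP σ hσ τ hτ h1 h2 => h σ τ (hP σ hσ) (hP τ hτ) h1 h2

/-- Every symmetry is trivial or given by `f`. -/
theorem dTwo_of_cases {I : Type*} {M : CoxeterMatrix I} (f : I → I)
    (h : ∀ σ : Equiv.Perm I, (∀ i j, M (σ i) (σ j) = M i j) → (∀ i, σ i = i) ∨ ∀ i, σ i = f i) : DTwo M := by
  refine dTwo_of_unique fun σ τ hσ hτ h1 h2 => ?_
  rcases h σ hσ with h3 | h3
  · exact absurd (Equiv.ext h3) h1
  rcases h τ hτ with h4 | h4
  · exact absurd (Equiv.ext h4) h2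
  exact Equiv.ext fun i => (h3 i).trans (h4 i).symm

/-! ### Exceptional types -/

/-- entries -/
def m6 (i j : Fin 6) : ℕ := CoxeterMatrix.E₆ i j
/-- entries -/
def m7 (i j : Fin 7) : ℕ := CoxeterMatrix.E₇ i j
/-- entries -/
def m8 (i j : Fin 8) : ℕ := CoxeterMatrix.E₈ i j

set_option synthInstance.maxHeartbeats 400000 in
set_option synthInstance.maxSize 10000 in
set_option maxRecDepth 100000 in
theorem e8 : ∀ x3 x1 : Fin 8, m8 x1 x3 = 3 → ∀ x2, m8 x2 x3 = 3 → x2 ≠ x1 →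
    ∀ x4, m8 x4 x3 = 3 → x4 ≠ x1 → x4 ≠ x2 → ∀ x0, m8 x0 x2 = 3 → x0 ≠ x3 → ∀ x5, m8 x5 x4 = 3 → x5 ≠ x3 →
    ∀ x6, m8 x6 x5 = 3 → x6 ≠ x4 → ∀ x7, m8 x7 x6 = 3 → x7 ≠ x5 →
    x0 = 0 ∧ x1 = 1 ∧ x2 = 2 ∧ x3 = 3 ∧ x4 = 4 ∧ x5 = 5 ∧ x6 = 6 ∧ x7 = 7 := by decide

set_option synthInstance.maxHeartbeats 400000 in
set_option synthInstance.maxSize 10000 in
set_option maxRecDepth 100000 in
theorem e7 : ∀ x3 x1 : Fin 7, m7 x1 x3 = 3 → ∀ x2, m7 x2 x3 = 3 → x2 ≠ x1 →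
    ∀ x4, m7 x4 x3 = 3 → x4 ≠ x1 → x4 ≠ x2 → ∀ x0, m7 x0 x2 = 3 → x0 ≠ x3 → ∀ x5, m7 x5 x4 = 3 → x5 ≠ x3 →
    ∀ x6, m7 x6 x5 = 3 → x6 ≠ x4 →
    x0 = 0 ∧ x1 = 1 ∧ x2 = 2 ∧ x3 = 3 ∧ x4 = 4 ∧ x5 = 5 ∧ x6 = 6 := by decide

set_option synthInstance.maxHeartbeats 400000 in
set_option synthInstance.maxSize 10000 in
set_option maxRecDepth 100000 in
theorem e6 : ∀ x3 x1 : Fin 6, m6 x1 x3 = 3 → ∀ x2, m6 x2 x3 = 3 → x2 ≠ x1 →
    ∀ x4, m6 x4 x3 = 3 → x4 ≠ x1 → x4 ≠ x2 → ∀ x0, m6 x0 x2 = 3 → x0 ≠ x3 → ∀ x5, m6 x5 x4 = 3 → x5 ≠ x3 →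
    (x0 = 0 ∧ x1 = 1 ∧ x2 = 2 ∧ x3 = 3 ∧ x4 = 4 ∧ x5 = 5) ∨
    (x0 = 5 ∧ x1 = 1 ∧ x2 = 4 ∧ x3 = 3 ∧ x4 = 2 ∧ x5 = 0) := by decide

theorem dTwo_E6 : DTwo CoxeterMatrix.E₆ := by
  refine dTwo_of_cases ![5, 1, 4, 3, 2, 0] fun σ hσ => ?_
  have hm : ∀ i j, m6 i j = 3 → m6 (σ i) (σ j) = 3 := fun i j h => (hσ i j).trans h
  have hi : ∀ i j, i ≠ j → σ i ≠ σ j := fun i j h => σ.injective.ne h
  rcases e6 (σ 3) (σ 1) (hm 1 3 rfl) (σ 2) (hm 2 3 rfl) (hi _ _ (by decide)) (σ 4) (hm 4 3 rfl) (hi _ _ (by decide))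
    (hi _ _ (by decide)) (σ 0) (hm 0 2 rfl) (hi _ _ (by decide)) (σ 5) (hm 5 4 rfl) (hi _ _ (by decide)) with h | h
  · left
    intro i
    fin_cases i
    · exact h.1
    · exact h.2.1
    · exact h.2.2.1
    · exact h.2.2.2.1
    · exact h.2.2.2.2.1
    · exact h.2.2.2.2.2
  · right
    intro i
    fin_cases i
    · exact h.1
    · exact h.2.1
    · exact h.2.2.1
    · exact h.2.2.2.1
    · exact h.2.2.2.2.1
    · exact h.2.2.2.2.2

theorem dTwo_E7 : DTwo CoxeterMatrix.E₇ := by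
  refine dTwo_of_cases id fun σ hσ => ?_
  have hm : ∀ i j, m7 i j = 3 → m7 (σ i) (σ j) = 3 := fun i j h => (hσ i j).trans h
  have hi : ∀ i j, i ≠ j → σ i ≠ σ j := fun i j h => σ.injective.ne h
  have h := e7 (σ 3) (σ 1) (hm 1 3 rfl) (σ 2) (hm 2 3 rfl) (hi _ _ (by decide)) (σ 4) (hm 4 3 rfl) (hi _ _ (by decide))
    (hi _ _ (by decide)) (σ 0) (hm 0 2 rfl) (hi _ _ (by decide)) (σ 5) (hm 5 4 rfl) (hi _ _ (by decide))
    (σ 6) (hm 6 5 rfl) (hi _ _ (by decide))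
  left
  intro i
  fin_cases i
  · exact h.1
  · exact h.2.1
  · exact h.2.2.1
  · exact h.2.2.2.1
  · exact h.2.2.2.2.1
  · exact h.2.2.2.2.2.1
  · exact h.2.2.2.2.2.2

theorem dTwo_E8 : DTwo CoxeterMatrix.E₈ := by
  refine dTwo_of_cases id fun σ hσ => ?_
  have hm : ∀ i j, m8 i j = 3 → m8 (σ i) (σ j) = 3 := fun i j h => (hσ i j).trans h
  have hi : ∀ i j, i ≠ j → σ i ≠ σ j := fun i j h => σ.injective.ne h
  have h := e8 (σ 3) (σ 1) (hm 1 3 rfl) (σ 2) (hm 2 3 rfl) (hi _ _ (by decide)) (σ 4) (hm 4 3 rfl) (hi _ _ (by decide))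
    (hi _ _ (by decide)) (σ 0) (hm 0 2 rfl) (hi _ _ (by decide)) (σ 5) (hm 5 4 rfl) (hi _ _ (by decide))
    (σ 6) (hm 6 5 rfl) (hi _ _ (by decide)) (σ 7) (hm 7 6 rfl) (hi _ _ (by decide))
  left
  intro i
  fin_cases i
  · exact h.1
  · exact h.2.1
  · exact h.2.2.1
  · exact h.2.2.2.1
  · exact h.2.2.2.2.1
  · exact h.2.2.2.2.2.1
  · exact h.2.2.2.2.2.2.1
  · exact h.2.2.2.2.2.2.2

/-! ### Type `A` -/

open Cfsg.Agent.LieRecognition.BNCox (cA cA_apply)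
open Cfsg.Agent.LieRecognition.CoxClass (mA)

/-- A symmetry of the path does not increase distances. -/
theorem lip {n : ℕ} {σ : Equiv.Perm (Fin n)} (hσ : ∀ i j, cA n (σ i) (σ j) = cA n i j) (d : ℕ) :
    ∀ i j : Fin n, (i : ℕ) + d = j → ((σ i : ℕ) : ℤ) ≤ (σ j : ℕ) + d ∧ ((σ j : ℕ) : ℤ) ≤ (σ i : ℕ) + d := by
  induction d with
  | zero =>
    intro i j hij
    have : i = j := Fin.ext (by omega)
    subst this
    simp
  | succ d ih =>
    intro i j hij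
    have hj := j.2
    obtain ⟨h1, h2⟩ := ih i ⟨i + d, by omega⟩ rfl
    have h3 := hσ ⟨i + d, by omega⟩ j
    rw [cA_apply, cA_apply] at h3
    have h4 : mA ((⟨(i : ℕ) + d, by omega⟩ : Fin n) : ℕ) (j : ℕ) = 3 := by
      unfold mA
      rw [if_neg (by show ¬ (i : ℕ) + d = j; omega), if_pos (Or.inl (by show (i : ℕ) + d + 1 = j; omega))]
    rw [h4] at h3
    unfold mA at h3
    split_ifs at h3 with h5 h6
    all_goals (push_cast; constructor <;> omega)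

theorem dTwo_A (n : ℕ) : DTwo (cA n) := by
  refine dTwo_of_cases Fin.rev fun σ hσ => ?_
  rcases Nat.eq_zero_or_pos n with rfl | hn
  · left; intro i; exact absurd i.2 (by omega)
  have ha : ∀ i, σ (σ⁻¹ i) = i := fun i => σ.apply_symm_apply i
  have hb : ∀ i, σ⁻¹ (σ i) = i := fun i => σ.symm_apply_apply i
  have hσ' : ∀ i j, cA n (σ⁻¹ i) (σ⁻¹ j) = cA n i j := by
    intro i j
    have := hσ (σ⁻¹ i) (σ⁻¹ j)
    rw [ha, ha] at this
    exact this.symm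
  -- distances
  have hiso : ∀ i j : Fin n, ((i : ℕ) : ℤ) - (j : ℕ) = ((σ i : ℕ) : ℤ) - (σ j : ℕ) ∨
      ((i : ℕ) : ℤ) - (j : ℕ) = ((σ j : ℕ) : ℤ) - (σ i : ℕ) := by
    have key : ∀ i j : Fin n, (i : ℕ) ≤ j → ((i : ℕ) : ℤ) - (j : ℕ) = ((σ i : ℕ) : ℤ) - (σ j : ℕ) ∨
        ((i : ℕ) : ℤ) - (j : ℕ) = ((σ j : ℕ) : ℤ) - (σ i : ℕ) := by
      intro i j hij
      have h1 := lip hσ ((j : ℕ) - i) i j (by omega)
      rcases le_total ((σ i : ℕ)) (σ j : ℕ) with h2 | h2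
      · have h3 := lip hσ' ((σ j : ℕ) - σ i) (σ i) (σ j) (by omega)
        rw [hb, hb] at h3
        omega
      · have h3 := lip hσ' ((σ i : ℕ) - σ j) (σ j) (σ i) (by omega)
        rw [hb, hb] at h3
        omega
    intro i j
    rcases le_total (i : ℕ) (j : ℕ) with h | h
    · exact key i j h
    · have := key j i h
      omega
  have h0 := hiso ⟨0, hn⟩ ⟨n - 1, by omega⟩
  have b1 := (σ ⟨0, hn⟩).2
  have b2 := (σ ⟨n - 1, by omega⟩).2
  have e1 : (((⟨0, hn⟩ : Fin n) : ℕ) : ℤ) = 0 := rfl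
  have e2 : (((⟨n - 1, by omega⟩ : Fin n) : ℕ) : ℤ) = n - 1 := by
    show ((n - 1 : ℕ) : ℤ) = n - 1
    omega
  rw [e1, e2] at h0
  have h1 : (σ ⟨0, hn⟩ : ℕ) = 0 ∨ (σ ⟨0, hn⟩ : ℕ) = n - 1 := by omega
  rcases h1 with h1 | h1
  · left
    intro i
    have h2 := hiso i ⟨0, hn⟩
    rw [e1, h1] at h2
    exact Fin.ext (by omega)
  · right
    intro i
    have h2 := hiso i ⟨0, hn⟩
    have := (σ i).2
    have := i.2
    rw [e1, h1] at h2
    apply Fin.ext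
    rw [Fin.val_rev]
    omega

/-! ### Type `D` -/

open Cfsg.Agent.Nodes.TypeD (M_apply)

/-- adjacency in `D_{n+2}` -/
def ad (n i j : ℕ) : Prop :=
  (j < n + 1 ∧ i + 1 = j) ∨ (j = n + 1 ∧ i + 2 = j) ∨ (i < n + 1 ∧ j + 1 = i) ∨ (i = n + 1 ∧ j + 2 = i)

theorem M_eq_three {n : ℕ} (i j : Fin (n + 2)) : Cfsg.Agent.Nodes.TypeD.M n i j = 3 ↔ ad n i j := by
  rw [M_apply]
  unfold Cfsg.Agent.Nodes.TypeD.Adj ad
  by_cases h : i = j
  · subst h
    rw [if_pos rfl]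
    constructor
    · intro h; omega
    · intro h; omega
  · rw [if_neg h]
    have h' : (i : ℕ) ≠ j := fun e => h (Fin.ext e)
    split_ifs with h1
    · simp only [true_iff]; omega
    · constructor
      · intro h2; omega
      · intro h2; omega

theorem ad_low {n i j : ℕ} (hi : i + 2 ≤ n) (h : ad n i j) : j + 1 = i ∨ j = i + 1 := by
  unfold ad at h; omega

theorem ad_top {n i j : ℕ} (hi : n ≤ i) (h : ad n i j) : j + 1 = n := by
  unfold ad at h; omega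

theorem ad_c {n i j : ℕ} (hi : i + 1 = n) (h : ad n i j) : j + 2 = n ∨ j = n ∨ j = n + 1 := by
  unfold ad at h; omega

/-- the vertex of degree three -/
theorem eq_c {n c a p q : ℕ} (hc : c < n + 2) (h1 : ad n c a) (h2 : ad n c p) (h3 : ad n c q) (k1 : a ≠ p)
    (k2 : a ≠ q) (k3 : p ≠ q) : c + 1 = n := by
  by_contra hcon
  rcases Nat.lt_or_ge (c + 1) n with h | h
  · have e1 := ad_low (by omega) h1
    have e2 := ad_low (by omega) h2
    have e3 := ad_low (by omega) h3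
    omega
  · have e1 := ad_top (by omega) h1
    have e2 := ad_top (by omega) h2
    omega

/-- `n ≥ 3` -/
theorem diag_D {n : ℕ} (hn : 3 ≤ n) {σ : Equiv.Perm (Fin (n + 2))}
    (hσ : ∀ i j, Cfsg.Agent.Nodes.TypeD.M n (σ i) (σ j) = Cfsg.Agent.Nodes.TypeD.M n i j) :
    (∀ i, σ i = i) ∨ ∀ i, σ i = Equiv.swap (⟨n, by omega⟩ : Fin (n + 2)) ⟨n + 1, by omega⟩ i := by
  have had : ∀ i j : Fin (n + 2), ad n i j → ad n (σ i) (σ j) := fun i j h =>
    (M_eq_three _ _).1 ((hσ i j).trans ((M_eq_three i j).2 h))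
  have hinj : ∀ i j : Fin (n + 2), (i : ℕ) ≠ j → (σ i : ℕ) ≠ σ j := fun i j h e =>
    h (congrArg Fin.val (σ.injective (Fin.ext e)))
  have hlt : ∀ i, (σ i : ℕ) < n + 2 := fun i => (σ i).2
  obtain ⟨c, hc⟩ : ∃ c : Fin (n + 2), (c : ℕ) = n - 1 := ⟨⟨n - 1, by omega⟩, rfl⟩
  obtain ⟨a, ha⟩ : ∃ c : Fin (n + 2), (c : ℕ) = n - 2 := ⟨⟨n - 2, by omega⟩, rfl⟩
  obtain ⟨b, hb⟩ : ∃ c : Fin (n + 2), (c : ℕ) = n - 3 := ⟨⟨n - 3, by omega⟩, rfl⟩
  obtain ⟨p, hp⟩ : ∃ c : Fin (n + 2), (c : ℕ) = n := ⟨⟨n, by omega⟩, rfl⟩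
  obtain ⟨q, hq⟩ : ∃ c : Fin (n + 2), (c : ℕ) = n + 1 := ⟨⟨n + 1, by omega⟩, rfl⟩
  have h1 := had c a (Or.inr (Or.inr (Or.inl ⟨by omega, by omega⟩)))
  have h2 := had c p (Or.inl ⟨by omega, by omega⟩)
  have h3 := had c q (Or.inr (Or.inl ⟨by omega, by omega⟩))
  have h4 := had a b (Or.inr (Or.inr (Or.inl ⟨by omega, by omega⟩)))
  have k1 := hinj a p (by omega)
  have k2 := hinj a q (by omega)
  have k3 := hinj p q (by omega)
  have k4 := hinj b c (by omega)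
  have l1 := hlt a
  have l2 := hlt p
  have l3 := hlt q
  have l4 := hlt c
  have e0 := eq_c l4 h1 h2 h3 k1 k2 k3
  have f1 := ad_c e0 h1
  have f2 := ad_c e0 h2
  have f3 := ad_c e0 h3
  have e1 : (σ c : ℕ) = n - 1 := by omega
  have e2 : (σ a : ℕ) = n - 2 := by
    rcases f1 with f1 | f1 | f1
    · omega
    · have := ad_top (by omega) h4; omega
    · have := ad_top (by omega) h4; omega
  -- descending
  have key : ∀ d : ℕ, ∀ i : Fin (n + 2), (i : ℕ) + d = n - 1 → (σ i : ℕ) = i ∧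
      ∀ j : Fin (n + 2), (j : ℕ) + 1 = i → (σ j : ℕ) = j := by
    intro d
    induction d with
    | zero =>
      intro i hi
      have : i = c := Fin.ext (by omega)
      subst this
      refine ⟨by omega, fun j hj => ?_⟩
      have : j = a := Fin.ext (by omega)
      subst this
      omega
    | succ d ih =>
      intro i hi
      have h5 := ih ⟨i + 1, by omega⟩ (by show (i : ℕ) + 1 + d = n - 1; omega)
      have h6 : (σ i : ℕ) = i := h5.2 i rfl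
      refine ⟨h6, fun j hj => ?_⟩
      have h7 := had i j (Or.inr (Or.inr (Or.inl ⟨by omega, hj⟩)))
      have h8 := hinj ⟨i + 1, by omega⟩ j (by show (i : ℕ) + 1 ≠ j; omega)
      have h9 : (σ ⟨(i : ℕ) + 1, by omega⟩ : ℕ) = i + 1 := h5.1
      rw [h9] at h8
      rw [h6] at h7
      have := ad_low (by omega) h7
      omega
  have key' : ∀ i : Fin (n + 2), (i : ℕ) ≤ n - 1 → (σ i : ℕ) = i := fun i hi =>
    (key (n - 1 - i) i (by omega)).1
  have e3 : ((σ p : ℕ) = n ∧ (σ q : ℕ) = n + 1) ∨ ((σ p : ℕ) = n + 1 ∧ (σ q : ℕ) = n) := by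
    clear key key' h1 h2 h3 h4 f1 k4
    omega
  have hp' : p = ⟨n, by omega⟩ := Fin.ext hp
  have hq' : q = ⟨n + 1, by omega⟩ := Fin.ext hq
  have hcases : ∀ i : Fin (n + 2), (i : ℕ) ≤ n - 1 ∨ i = p ∨ i = q := by
    intro i
    have := i.2
    by_cases h5 : (i : ℕ) ≤ n - 1
    · exact Or.inl h5
    · right
      by_cases h6 : (i : ℕ) = n
      · left; exact Fin.ext (by omega)
      · right; exact Fin.ext (by omega)
  rcases e3 with e3 | e3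
  · left
    intro i
    rcases hcases i with h5 | rfl | rfl
    · exact Fin.ext (key' i h5)
    · exact Fin.ext (by omega)
    · exact Fin.ext (by omega)
  · right
    intro i
    rw [← hp', ← hq']
    rcases hcases i with h5 | rfl | rfl
    · rw [Equiv.swap_apply_of_ne_of_ne]
      · exact Fin.ext (key' i h5)
      · rintro rfl; omega
      · rintro rfl; omega
    · rw [Equiv.swap_apply_left]
      exact Fin.ext (by omega)
    · rw [Equiv.swap_apply_right]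
      exact Fin.ext (by omega)

set_option synthInstance.maxHeartbeats 400000 in
set_option synthInstance.maxSize 10000 in
set_option maxRecDepth 100000 in
theorem d4 : ∀ σ τ : Equiv.Perm (Fin 4), σ 1 = 1 → τ 1 = 1 → σ ≠ 1 → τ ≠ 1 →
    σ = τ ∨ σ ^ 3 = 1 ∨ τ ^ 3 = 1 ∨ ((σ * τ) ^ 3 = 1 ∧ σ * τ ≠ 1) := by decide

theorem dTwo_D {n : ℕ} (hn : 2 ≤ n) : DTwo (Cfsg.Agent.Nodes.TypeD.M n) := by
  by_cases h3 : 3 ≤ n
  · exact dTwo_of_cases _ fun σ hσ => diag_D h3 hσ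
  obtain rfl : n = 2 := by omega
  intro P hP hM σ hσ τ hτ h1 h2
  have hone : ∀ σ ∈ P, σ 1 = 1 := by
    intro σ hσ
    have had : ∀ i j : Fin 4, ad 2 i j → ad 2 (σ i) (σ j) := fun i j h =>
      (M_eq_three _ _).1 ((hM σ hσ i j).trans ((M_eq_three i j).2 h))
    have hinj : ∀ i j : Fin 4, (i : ℕ) ≠ j → (σ i : ℕ) ≠ σ j := fun i j h e =>
      h (congrArg Fin.val (σ.injective (Fin.ext e)))
    have a1 := had 1 0 (by unfold ad; decide)
    have a2 := had 1 2 (by unfold ad; decide)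
    have a3 := had 1 3 (by unfold ad; decide)
    have k1 := hinj 0 2 (by decide)
    have k2 := hinj 0 3 (by decide)
    have k3 := hinj 2 3 (by decide)
    have l1 := (σ 0).2
    have l2 := (σ 2).2
    have l3 := (σ 3).2
    have l4 := (σ 1).2
    unfold ad at a1 a2 a3
    apply Fin.ext
    show (σ 1 : ℕ) = 1
    omega
  -- elements of order three are trivial
  have hthree : ∀ ρ ∈ P, ρ ^ 3 = 1 → ρ = 1 := by
    intro ρ hρ h4
    obtain ⟨k, hk⟩ := hP ⟨ρ, hρ⟩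
    have hk' : ρ ^ 2 ^ k = 1 := congrArg Subtype.val hk
    have h5 : orderOf ρ ∣ Nat.gcd 3 (2 ^ k) := Nat.dvd_gcd (orderOf_dvd_of_pow_eq_one h4) (orderOf_dvd_of_pow_eq_one hk')
    have h6 : Nat.gcd 3 (2 ^ k) = 1 := Nat.Coprime.pow_right k (by decide)
    rw [h6, Nat.dvd_one, orderOf_eq_one_iff] at h5
    exact h5
  rcases d4 σ τ (hone σ hσ) (hone τ hτ) h1 h2 with h | h | h | h
  · exact h
  · exact absurd (hthree σ hσ h) h1
  · exact absurd (hthree τ hτ h) h2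
  · exact absurd (hthree _ (mul_mem hσ hτ) h.1) h.2

end Cfsg.Agent.KFacts.SLRow.Diag
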