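import Cfsg.Agent.KFacts.SLRow.Def
import Cfsg.Agent.Nodes.WittInst

/-!
# `PΩ⁺_{2m}(q)`, `m ≥ 4`, `q` even: simply laced data (K-facts for S1765, D7)

* `noCent_of_center` : a group without centre has no centre in `T`;
* `eq_zero_of_toPOmega` : the root groups embed in `PΩ`;
* `isSL_POmega`, `isSL_POmega'`.
-/

set_option autoImplicit false
set_option linter.unusedSectionVars false

namespace Cfsg.Agent.KFacts.SLRow.OmegaPlus

open Cfsg
open CoxeterSystem Cfsg.Agent.ChevalleyStructure.CoxeterGeom Cfsg.Agent.Tits.Roots Cfsg.Agent.Tits.Core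
  Cfsg.Agent.Nodes.Reps Cfsg.Agent.Nodes.BNOf Cfsg.Agent.Nodes.RGDLib Cfsg.Agent.KFacts.SLRow.Def
open Cfsg.Agent.Nodes.TypeC (wt ng ng_ng ng_fst wt_ng)
open Cfsg.Agent.Nodes.TypeD
open Cfsg.Agent.Nodes.WittRoot (Amb XG mem_XG)
open Cfsg.Agent.Nodes.WittInst
open Cfsg.Agent.TitsThree Cfsg.Agent.TitsThree.Siegel Cfsg.Agent.TitsThree.SiegelGen
  Cfsg.Agent.TitsThree.WittFrame Cfsg.Agent.TitsThree.WBridge Cfsg.Agent.TitsThree.WittWeyl
open Cfsg.Agent.LieClassical Cfsg.Agent.LieClassical.OrthCore Cfsg.Agent.LieClassical.OrthTrans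
open Cfsg.Agent.LieClassical.OrthSimple Cfsg.Agent.LieClassical.OrthFinite
open Cfsg.Agent.LieClassical.OrthForms
open Cfsg.Agent.TitsThree.KSideO Cfsg.Agent.TitsThree.StdData

section

variable {I W Y : Type*} [Fintype I] [DecidableEq I] [Group W] [Group Y] {M : CoxeterMatrix I}
  {cs : CoxeterSystem M W} {A : I → I → ℤ} {h : IsCartan M A} {T : Subgroup Y} {X : (I → ℤ) → Subgroup Y}

/-- A group generated by its root groups and without centre has no centre in `T`. -/
theorem noCent_of_center (hG : RGD.Sup X {x | IsRoot cs h x} = ⊤) (hc : Subgroup.center Y = ⊥) :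
    RgdCent.NoCent cs h T X := by
  intro t _ ht
  rw [← Subgroup.mem_bot, ← hc, Subgroup.mem_center_iff]
  intro g
  have h1 : (⊤ : Subgroup Y) ≤ Subgroup.centralizer {t} := by
    rw [← hG]
    refine iSup_le fun x v hv => ?_
    rw [Subgroup.mem_centralizer_singleton_iff]
    exact (ht x.1 x.2 v hv).symm
  exact Subgroup.mem_centralizer_singleton_iff.1 (h1 (Subgroup.mem_top g))

theorem center_eq_bot_of_simple [IsSimpleGroup Y] {x y : Y} (hxy : x * y ≠ y * x) : Subgroup.center Y = ⊥ := by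
  rcases (inferInstance : (Subgroup.center Y).Normal).eq_bot_or_eq_top with h1 | h1
  · exact h1
  · exfalso
    have h2 : x ∈ Subgroup.center Y := by rw [h1]; trivial
    exact hxy ((Subgroup.mem_center_iff.1 h2 y).symm)

end

/-! ### The diagram -/

theorem conn_M (n : ℕ) (hn : 1 ≤ n) : Conn (M n) := by
  refine conn_of_parent (fun i => (i : ℕ)) (fun i => if (i : ℕ) = n + 1 then ⟨n - 1, by omega⟩ else
    ⟨(i : ℕ) - 1, by have := i.2; omega⟩) ?_ ?_ ?_
  · intro i j hi hj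
    exact Fin.ext (by omega)
  · intro i hi
    have := i.2
    split_ifs with h1
    · show n - 1 < (i : ℕ)
      omega
    · show (i : ℕ) - 1 < i
      omega
  · intro i hi
    have := i.2
    have key : ∀ j : Fin (n + 2), (i : ℕ) ≠ j → Cfsg.Agent.Nodes.TypeD.Adj j i → M n i j ≠ 2 := by
      intro j hij hj
      rw [M_apply, if_neg (fun e => hij (congrArg Fin.val e)), if_pos (Or.inr hj)]
      norm_num
    by_cases h1 : (i : ℕ) = n + 1
    · rw [if_pos h1]
      exact key _ (show (i : ℕ) ≠ n - 1 by omega) (Or.inr ⟨h1, show n - 1 + 2 = (i : ℕ) by omega⟩)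
    · rw [if_neg h1]
      exact key _ (show (i : ℕ) ≠ i - 1 by omega) (Or.inl ⟨by omega, show (i : ℕ) - 1 + 1 = i by omega⟩)

theorem M_ne (n : ℕ) (i j : Fin (n + 2)) : M n i j ≠ 4 ∧ M n i j ≠ 6 := by
  rw [M_apply]
  split_ifs <;> omega

/-! ### The root groups in the quotient -/

section Inj

variable {F V : Type*} [Field F] [AddCommGroup V] [Module F V] {H : HForm F V} {k : ℕ} (Fr : Frame H (Fin k))

theorem X_eq_one {a b : Fin k × Bool} (hab : a.1 ≠ b.1) {t : F} (ht : Fr.X a b t = 1) : t = 0 := by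
  have h1 := X_apply_neg Fr hab t
  rw [ht] at h1
  have h2 : t • Fr.b a = 0 := by
    have h3 : (1 : V ≃ₗ[F] V) (Fr.b (neg b)) = Fr.b (neg b) := rfl
    rw [h3, left_eq_add] at h1
    exact h1
  rcases smul_eq_zero.1 h2 with h3 | h3
  · exact h3
  · exact absurd h3 (Cfsg.Agent.Nodes.WittRGD.b_ne_zero a)

/-- A root element which is a scalar is trivial. -/
theorem X_eq_smul {a b : Fin k × Bool} (hab : a.1 ≠ b.1) {t c : F} (ht : ∀ v, Fr.X a b t v = c • v) : t = 0 := by
  have h1 : Fr.X a b t (Fr.b a) = Fr.b a := by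
    refine X_apply_of_ne Fr hab (ne_neg_self a) (fun e => hab ?_) t
    rw [e]
    rfl
  rw [ht] at h1
  have h2 : c = 1 := by
    have h3 : (c - 1) • Fr.b a = 0 := by rw [sub_smul, h1, one_smul, sub_self]
    rcases smul_eq_zero.1 h3 with h4 | h4
    · exact sub_eq_zero.1 h4
    · exact absurd h4 (Cfsg.Agent.Nodes.WittRGD.b_ne_zero a)
  refine X_eq_one Fr hab (LinearEquiv.ext fun v => ?_)
  rw [ht, h2, one_smul]
  rfl

end Inj

variable {ι : Type} [Fintype ι] [DecidableEq ι] {F : Type*} [Field F] {Q : QuadraticForm F (ι → F)} {n : ℕ}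
  (W : WFrame (PO Q) (n + 2))

/-- The image of a root element in `PΩ`. -/
noncomputable def xO (hG : Good Q) (a b : Fin (n + 2) × Bool) (t : F) : POmega F ⇑Q :=
  toPOmega hG ⟨(toFrame W).X a b t, X_mem W _ _ _⟩

theorem xO_add (hG : Good Q) (a b : Fin (n + 2) × Bool) (s t : F) :
    xO W hG a b (s + t) = xO W hG a b s * xO W hG a b t := by
  rw [xO, xO, xO, ← map_mul]
  congr 1
  exact Subtype.ext ((toFrame W).X_add a b s t)

theorem xO_inj (hG : Good Q) {a b : Fin (n + 2) × Bool} (hab : a.1 ≠ b.1) {t : F} (ht : xO W hG a b t = 1) :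
    t = 0 := by
  obtain ⟨c, hc⟩ := scalar_of_center hG (center_of_toPOmega hG ht)
  exact X_eq_smul (toFrame W) hab hc

theorem mem_XD (hG : Good Q) {x : Fin (n + 2) → ℤ} {a b : Fin (n + 2) × Bool} (hab : a.1 ≠ b.1)
    (e : ee x = wt a + wt b) {g : POmega F ⇑Q} : g ∈ XD W (toPOmega hG) x ↔ ∃ t, xO W hG a b t = g := by
  unfold XD
  rw [Cfsg.Agent.Nodes.WittRGDD.rg_eq (toFrame W) hab e]
  constructor
  · rintro ⟨k, hk, rfl⟩
    obtain ⟨t, ht⟩ := (mem_XG (toFrame W)).1 (Subgroup.mem_subgroupOf.1 hk)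
    refine ⟨t, ?_⟩
    rw [xO]
    congr 1
    exact Subtype.ext ht.symm
  · rintro ⟨t, rfl⟩
    exact ⟨_, Subgroup.mem_subgroupOf.2 ((mem_XG (toFrame W)).2 ⟨t, rfl⟩), rfl⟩

theorem card_XD (hG : Good Q) {G : Type*} [Group G] (cs : CoxeterSystem (M n) G) {x : Fin (n + 2) → ℤ}
    (hx : IsRoot cs (isCartan n) x) : Nat.card ↥(XD W (toPOmega hG) x) = Nat.card F := by
  obtain ⟨a, b, hab, e⟩ := exists_of_isRoot cs hx
  refine (Nat.card_congr (Equiv.ofBijective
    (fun t : F => (⟨xO W hG a b t, (mem_XD W hG hab e).2 ⟨t, rfl⟩⟩ : ↥(XD W (toPOmega hG) x)))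
    ⟨fun t u htu => ?_, ?_⟩)).symm
  · have h3 : xO W hG a b t = xO W hG a b u := congrArg Subtype.val htu
    have h4 : xO W hG a b (t - u) = 1 := by
      have h5 := xO_add W hG a b (t - u) u
      rw [sub_add_cancel, h3, eq_comm, mul_eq_right] at h5
      exact h5
    exact sub_eq_zero.1 (xO_inj W hG hab h4)
  · rintro ⟨g, hg⟩
    obtain ⟨t, rfl⟩ := (mem_XD W hG hab e).1 hg
    exact ⟨t, rfl⟩

/-! ### The data -/

theorem good_plus (m : ℕ) (F : Type*) [Field F] [Finite F] (hm : 3 ≤ m) : Good (plusForm m F) := by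
  apply good_of_finite (nondeg_plusForm m F)
  rw [Module.finrank_fintype_fun_eq_card, Fintype.card_sum, Fintype.card_fin]
  omega

theorem xO_comm (hG : Good Q) {a b d : Fin (n + 2) × Bool} (hab : a.1 ≠ b.1) (hbd : b.1 ≠ d.1) (had : a.1 ≠ d.1)
    (s t : F) : xO W hG a b s * xO W hG (ng b) d t = xO W hG a d (s * t) * xO W hG (ng b) d t * xO W hG a b s := by
  have h1 := (toFrame W).conj_X_X hab hbd had s t
  rw [mul_inv_eq_iff_eq_mul] at h1
  rw [xO, xO, xO, ← map_mul, ← map_mul, ← map_mul]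
  congr 1
  exact Subtype.ext h1

theorem center_eq_bot {m : ℕ} (F : Type*) [Field F] [Finite F] (hm : 3 ≤ m) :
    Subgroup.center (POmega F ⇑(plusForm m F)) = ⊥ := by
  have hG := good_plus m F hm
  have : IsSimpleGroup (POmega F ⇑(plusForm m F)) := isSimpleGroup_POmega_of_good hG
  obtain ⟨n, rfl⟩ : ∃ n, m = n + 2 := ⟨m - 2, by omega⟩
  have h1 := xO_comm (wplus (n + 2) F) hG (a := (⟨0, by omega⟩, true)) (b := (⟨1, by omega⟩, true))
    (d := (⟨2, by omega⟩, true)) (by simp [Fin.ext_iff]) (by simp [Fin.ext_iff]) (by simp [Fin.ext_iff]) 1 1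
  refine center_eq_bot_of_simple (x := xO (wplus (n + 2) F) hG (⟨0, by omega⟩, true) (⟨1, by omega⟩, true) 1)
    (y := xO (wplus (n + 2) F) hG (ng (⟨1, by omega⟩, true)) (⟨2, by omega⟩, true) 1) fun h2 => ?_
  rw [h2, mul_assoc, eq_comm, mul_eq_right, mul_one] at h1
  exact one_ne_zero (xO_inj (wplus (n + 2) F) hG (by simp) h1)

/-- **`PΩ⁺_{2m}(q)`, `q` even, `m ≥ 3`.** -/
theorem isSL_POmega {m : ℕ} (hm : 3 ≤ m) (F : Type*) [Field F] [Finite F] [CharP F 2] :
    IsSL (Nat.card F) m (POmega F ⇑(plusForm m F)) := by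
  have : Fact (Nat.Prime 2) := ⟨Nat.prime_two⟩
  obtain ⟨n, rfl⟩ : ∃ n, m = n + 2 := ⟨m - 2, by omega⟩
  have hG := good_plus (n + 2) F hm
  exact ⟨M n, A n, isCartan n, _, _, _, finite_W (M n).toCoxeterSystem,
    rgdD_model (wplus (n + 2) F) hG (amb_plus _) (adm_plus _) _, le_top,
    G1D_eq_top (wplus (n + 2) F) (toPOmega hG) (toPOmega_surjective hG) (adm_plus _) _,
    noCent_of_center (G1D_eq_top (wplus (n + 2) F) (toPOmega hG) (toPOmega_surjective hG) (adm_plus _) _)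
      (center_eq_bot F hm),
    conn_M n (by omega), by simpa using hm, fun i j => (M_ne n i j).1, fun i j => (M_ne n i j).2,
    fun x hx => card_XD (wplus (n + 2) F) hG _ hx⟩

theorem isSL_POmega' {m : ℕ} (hm : 3 ≤ m) (F : Type*) [Field F] [Finite F] [CharP F 2] :
    IsSL (Nat.card F) m (POmega F (quadFormPlus m F)) := by
  rw [← coe_plusForm]
  exact isSL_POmega hm F

end Cfsg.Agent.KFacts.SLRow.OmegaPlus
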