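import Cfsg.Agent.KFacts.SLRow.DomE
import Cfsg.Agent.KFacts.SLRow.OmegaPlus

/-!
# The dominant root of `D_{n+2}` (K-facts for S1765; helper158)

* `A_eq` : a Cartan matrix of the diagram `TypeD.M n` is `TypeD.A n`;
* `dom_ee` : a root `r` with `(i, r) ≥ 0` for every simple `i` is `ε₀ + ε₁`;
* `dom_D` : `(1, r) = 1`, `(i, r) = 0` for `i ≠ 1`.
-/

set_option autoImplicit false
set_option linter.unusedSectionVars false

namespace Cfsg.Agent.KFacts.SLRow.DomD

open CoxeterSystem Cfsg.Agent.ChevalleyStructure.CoxeterGeom Cfsg.Agent.Tits.Roots Cfsg.Agent.Tits.Core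
  Cfsg.Agent.Nodes.Reps Cfsg.Agent.Nodes.Coroot Cfsg.Agent.Nodes.SimplyLaced Cfsg.Agent.OddHalf.SL.Index
  Cfsg.Agent.KFacts.SLRow.Def Cfsg.Agent.Nodes.ZFam Cfsg.Agent.Nodes.TypeD
  Cfsg.Agent.KFacts.SLRow.OmegaPlus
open Cfsg.Agent.Nodes.TypeC (wt wt_apply ng)

variable {n : ℕ} {W : Type*} [Group W] {A : Fin (n + 2) → Fin (n + 2) → ℤ}

theorem A_eq (h : IsCartan (M n) A) : A = Cfsg.Agent.Nodes.TypeD.A n := by
  funext i j
  rw [cart_eq (fun i j => (M_ne n i j).1) (fun i j => (M_ne n i j).2) h i j,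
    cart_eq (fun i j => (M_ne n i j).1) (fun i j => (M_ne n i j).2) (isCartan n) i j]

variable [Finite W] (cs : CoxeterSystem (M n) W)

include cs in
/-- `(i, r)` in `ε`-coordinates -/
theorem bf_ee (h : IsCartan (M n) A) (i : Fin (n + 2)) (r : Fin (n + 2) → ℤ) :
    Bf A (sr i) r = Cf i (ee r) := by
  rw [DomE.bf_pairing cs h (fun i j => (M_ne n i j).1) (fun i j => (M_ne n i j).2), Cf_ee, A_eq h]

/-- **The dominant root is `ε₀ + ε₁`.** -/
theorem dom_ee (hn : 1 ≤ n) (h : IsCartan (M n) A) {r : Fin (n + 2) → ℤ} (hr : IsRoot cs h r)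
    (hd : ∀ i, 0 ≤ cpr cs h (sr i) r) : ee r = wt (0, true) + wt (1, true) := by
  have hd' : ∀ i, 0 ≤ Cf i (ee r) := fun i => by
    rw [← bf_ee cs h]
    have := hd i
    rwa [← bf_eq_cpr (fun i j => (M_ne n i j).1) (fun i j => (M_ne n i j).2) _ hr] at this
  obtain rfl := A_eq h
  obtain ⟨a, b, hab, e⟩ := exists_of_isRoot cs hr
  set u := ee r with hu
  -- `u` is decreasing
  have hstep : ∀ i : ℕ, ∀ hi : i + 1 < n + 2, u ⟨i + 1, hi⟩ ≤ u ⟨i, by omega⟩ := by
    intro i hi
    have := hd' ⟨i, by omega⟩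
    unfold Cf at this
    rw [dif_pos hi] at this
    exact sub_nonneg.1 this
  have hlast : 0 ≤ u ⟨n + 1, by omega⟩ + u ⟨n, by omega⟩ := by
    have := hd' ⟨n + 1, by omega⟩
    unfold Cf at this
    rw [dif_neg (by show ¬ (n + 1 + 1 < n + 2); omega)] at this
    exact this
  have hdec : ∀ d i : ℕ, ∀ hi : i + d < n + 2, u ⟨i + d, hi⟩ ≤ u ⟨i, by omega⟩ := by
    intro d
    induction d with
    | zero => intro i hi; exact le_refl _
    | succ d ih =>
      intro i hi
      exact (hstep (i + d) (by omega)).trans (ih i (by omega))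
  have hmono : ∀ i j : Fin (n + 2), (i : ℕ) ≤ j → u j ≤ u i := by
    intro i j hij
    have := hdec ((j : ℕ) - i) i (by have := j.2; omega)
    have e1 : (⟨(i : ℕ) + ((j : ℕ) - i), by have := j.2; omega⟩ : Fin (n + 2)) = j := Fin.ext (by
      show (i : ℕ) + ((j : ℕ) - i) = j
      omega)
    rwa [e1] at this
  have hn0 : 0 ≤ u ⟨n, by omega⟩ := by
    have := hstep n (by omega)
    omega
  have hpos : ∀ i : Fin (n + 2), (i : ℕ) ≤ n → 0 ≤ u i := fun i hi =>
    hn0.trans (hmono i ⟨n, by omega⟩ hi)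
  -- the value of `u`
  have hval : ∀ k, u k = (if k = a.1 then (if a.2 then 1 else -1) else 0) +
      (if k = b.1 then (if b.2 then 1 else -1) else 0) := by
    intro k
    rw [e, Pi.add_apply, wt_apply, wt_apply]
  have hne : ∀ k, u k ≠ 0 → k = a.1 ∨ k = b.1 := by
    intro k hk
    by_contra hcon
    push Not at hcon
    rw [hval, if_neg hcon.1, if_neg hcon.2] at hk
    exact hk rfl
  -- the larger of the two indices
  have key : ∀ a b : Fin (n + 2) × Bool, (a.1 : ℕ) < b.1 → u = wt a + wt b →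
      (∀ k, u k ≠ 0 → k = a.1 ∨ k = b.1) → u = wt (0, true) + wt (1, true) := by
    intro a b hlt e hne
    have hab' : a.1 ≠ b.1 := fun h => by rw [h] at hlt; omega
    have ha : u a.1 ≠ 0 := by
      rw [e, Pi.add_apply, wt_apply, wt_apply, if_pos rfl, if_neg hab', add_zero]
      split_ifs <;> norm_num
    have hb : u b.1 ≠ 0 := by
      rw [e, Pi.add_apply, wt_apply, wt_apply, if_neg hab'.symm, if_pos rfl, zero_add]
      split_ifs <;> norm_num
    have hb1 : (b.1 : ℕ) = 1 := by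
      by_contra hb1
      -- every index below `b.1` is nonzero
      have hall : ∀ k : Fin (n + 2), (k : ℕ) < b.1 → u k ≠ 0 := by
        intro k hk h0
        have h1 := hmono k b.1 hk.le
        by_cases h2 : (b.1 : ℕ) ≤ n
        · have := hpos b.1 h2
          apply hb; omega
        · have h3 : b.1 = ⟨n + 1, by omega⟩ := Fin.ext (by have := b.1.2; show (b.1 : ℕ) = n + 1; omega)
          have h4 := hmono k ⟨n, by omega⟩ (show (k : ℕ) ≤ n by omega)
          rw [← h3] at hlast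
          apply hb
          have h5 := hpos ⟨n, by omega⟩ (le_refl _)
          omega
      rcases hne ⟨0, by omega⟩ (hall _ (by show 0 < (b.1 : ℕ); omega)) with h1 | h1
      · rcases hne ⟨1, by omega⟩ (hall _ (by show 1 < (b.1 : ℕ); omega)) with h2 | h2
        · have := h1.trans h2.symm
          exact absurd (congrArg Fin.val this) (by norm_num)
        · exact hb1 (by rw [← h2])
      · have := congrArg Fin.val h1
        simp at this
        omega
    have ha1 : (a.1 : ℕ) = 0 := by omega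
    obtain ⟨a1, s⟩ := a
    obtain ⟨b1, s'⟩ := b
    obtain rfl : a1 = 0 := Fin.ext (by simpa using ha1)
    obtain rfl : b1 = 1 := Fin.ext (by simpa using hb1)
    have h0 := hpos 0 (by simp)
    have h1 := hpos 1 (by simp; omega)
    rw [e, Pi.add_apply, wt_apply, wt_apply] at h0 h1
    cases s <;> cases s' <;> simp_all
  rcases Nat.lt_or_gt_of_ne (fun h => hab (Fin.ext h) : (a.1 : ℕ) ≠ b.1) with h1 | h1
  · exact key a b h1 e hne
  · exact key b a h1 (e.trans (add_comm _ _)) (fun k hk => (hne k hk).symm)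

theorem val (k : Fin (n + 2)) : (wt (0, true) + wt (1, true) : Fin (n + 2) → ℤ) k =
    if (k : ℕ) = 0 then 1 else if (k : ℕ) = 1 then 1 else 0 := by
  have h0 : k = 0 ↔ (k : ℕ) = 0 := by rw [Fin.ext_iff]; rfl
  have h1 : k = 1 ↔ (k : ℕ) = 1 := by
    rw [Fin.ext_iff]
    have : ((1 : Fin (n + 2)) : ℕ) = 1 := rfl
    rw [this]
  rw [Pi.add_apply, wt_apply, wt_apply]
  simp only [h0, h1]
  split_ifs <;> omega

/-- **`(1, r) = 1`, `(i, r) = 0` for `i ≠ 1`.** -/
theorem dom_D (hn : 2 ≤ n) (h : IsCartan (M n) A) {r : Fin (n + 2) → ℤ} (hr : IsRoot cs h r)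
    (hd : ∀ i, 0 ≤ cpr cs h (sr i) r) : Bf A (sr 1) r = 1 ∧ ∀ i, i ≠ 1 → Bf A (sr i) r = 0 := by
  have e := dom_ee cs (by omega) h hr hd
  have key : ∀ i : Fin (n + 2), Bf A (sr i) r = if (i : ℕ) = 1 then 1 else 0 := by
    intro i
    have hi2 := i.2
    rw [bf_ee cs h, e]
    unfold Cf
    by_cases h1 : (i : ℕ) + 1 < n + 2
    · rw [dif_pos h1, val, val]
      show (if (i : ℕ) = 0 then (1 : ℤ) else if (i : ℕ) = 1 then 1 else 0) -
        (if (i : ℕ) + 1 = 0 then (1 : ℤ) else if (i : ℕ) + 1 = 1 then 1 else 0) = _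
      split_ifs <;> first | rfl | omega | (exfalso; assumption)
    · rw [dif_neg h1, val, val]
      show (if (i : ℕ) = 0 then (1 : ℤ) else if (i : ℕ) = 1 then 1 else 0) +
        (if n = 0 then (1 : ℤ) else if n = 1 then 1 else 0) = _
      split_ifs <;> first | rfl | omega
  refine ⟨by rw [key]; rfl, fun i hi => ?_⟩
  rw [key, if_neg]
  exact fun h => hi (Fin.ext h)

end Cfsg.Agent.KFacts.SLRow.DomD
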