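import Cfsg.Agent.KFacts.SLRow.Hirr

/-!
# The dominant root of `E₆`, `E₇`, `E₈` (K-facts for S1765; helper158)

`dom_E6`, `dom_E7`, `dom_E8` : a root `r` with `(i, r) ≥ 0` for every simple `i` has `(j, r) = 1` for one node `j`
(`1`, `0`, `7`) and `(i, r) = 0` for the others.
-/

set_option autoImplicit false
set_option linter.unusedSectionVars false

namespace Cfsg.Agent.KFacts.SLRow.DomE

open CoxeterSystem Cfsg.Agent.ChevalleyStructure.CoxeterGeom Cfsg.Agent.Tits.Roots Cfsg.Agent.Tits.Core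
  Cfsg.Agent.Nodes.Reps Cfsg.Agent.Nodes.Coroot Cfsg.Agent.Nodes.SimplyLaced Cfsg.Agent.OddHalf.SL.Index
  Cfsg.Agent.KFacts.SLRow.Def Cfsg.Agent.Nodes.ZFam

theorem mul_le (a b c : ℤ) (h1 : 0 ≤ b) (h2 : 1 ≤ b → c ≤ a) : c * b ≤ a * b := by
  rcases h1.eq_or_lt with rfl | h3
  · simp
  · exact mul_le_mul_of_nonneg_right (h2 (by omega)) h1

theorem arith8 {x0 x1 x2 x3 x4 x5 x6 x7 m0 m1 m2 m3 m4 m5 m6 m7 : ℤ}
    (e0 : m0 = 2 * x0 - x2) (e1 : m1 = 2 * x1 - x3) (e2 : m2 = 2 * x2 - x0 - x3)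
    (e3 : m3 = 2 * x3 - x1 - x2 - x4) (e4 : m4 = 2 * x4 - x3 - x5) (e5 : m5 = 2 * x5 - x4 - x6)
    (e6 : m6 = 2 * x6 - x5 - x7) (e7 : m7 = 2 * x7 - x6)
    (h0 : 0 ≤ m0) (h1 : 0 ≤ m1) (h2 : 0 ≤ m2) (h3 : 0 ≤ m3) (h4 : 0 ≤ m4) (h5 : 0 ≤ m5) (h6 : 0 ≤ m6) (h7 : 0 ≤ m7)
    (hn : x0 * m0 + x1 * m1 + x2 * m2 + x3 * m3 + x4 * m4 + x5 * m5 + x6 * m6 + x7 * m7 = 2) :
    m7 = 1 ∧ m0 = 0 ∧ m1 = 0 ∧ m2 = 0 ∧ m3 = 0 ∧ m4 = 0 ∧ m5 = 0 ∧ m6 = 0 := by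
  have f0 : x0 = 4 * m0 + 5 * m1 + 7 * m2 + 10 * m3 + 8 * m4 + 6 * m5 + 4 * m6 + 2 * m7 := by omega
  have f1 : x1 = 5 * m0 + 8 * m1 + 10 * m2 + 15 * m3 + 12 * m4 + 9 * m5 + 6 * m6 + 3 * m7 := by omega
  have f2 : x2 = 7 * m0 + 10 * m1 + 14 * m2 + 20 * m3 + 16 * m4 + 12 * m5 + 8 * m6 + 4 * m7 := by omega
  have f3 : x3 = 10 * m0 + 15 * m1 + 20 * m2 + 30 * m3 + 24 * m4 + 18 * m5 + 12 * m6 + 6 * m7 := by omega
  have f4 : x4 = 8 * m0 + 12 * m1 + 16 * m2 + 24 * m3 + 20 * m4 + 15 * m5 + 10 * m6 + 5 * m7 := by omega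
  have f5 : x5 = 6 * m0 + 9 * m1 + 12 * m2 + 18 * m3 + 15 * m4 + 12 * m5 + 8 * m6 + 4 * m7 := by omega
  have f6 : x6 = 4 * m0 + 6 * m1 + 8 * m2 + 12 * m3 + 10 * m4 + 8 * m5 + 6 * m6 + 3 * m7 := by omega
  have f7 : x7 = 2 * m0 + 3 * m1 + 4 * m2 + 6 * m3 + 5 * m4 + 4 * m5 + 3 * m6 + 2 * m7 := by omega
  have g0 := mul_le x0 m0 3 h0 (by omega)
  have g1 := mul_le x1 m1 3 h1 (by omega)
  have g2 := mul_le x2 m2 3 h2 (by omega)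
  have g3 := mul_le x3 m3 3 h3 (by omega)
  have g4 := mul_le x4 m4 3 h4 (by omega)
  have g5 := mul_le x5 m5 3 h5 (by omega)
  have g6 := mul_le x6 m6 3 h6 (by omega)
  have g7 := mul_le x7 m7 2 h7 (by omega)
  have : m0 = 0 ∧ m1 = 0 ∧ m2 = 0 ∧ m3 = 0 ∧ m4 = 0 ∧ m5 = 0 ∧ m6 = 0 := by
    refine ⟨?_, ?_, ?_, ?_, ?_, ?_, ?_⟩ <;> linarith
  obtain ⟨r0, r1, r2, r3, r4, r5, r6⟩ := this
  subst r0 r1 r2 r3 r4 r5 r6
  have hs : 2 * m7 ≤ 2 := by linarith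
  have r7 : m7 = 1 := by
    rcases h7.eq_or_lt with h | h
    · rw [← h] at hn
      norm_num at hn
    · omega
  exact ⟨r7, rfl, rfl, rfl, rfl, rfl, rfl, rfl⟩

theorem arith7 {x0 x1 x2 x3 x4 x5 x6 m0 m1 m2 m3 m4 m5 m6 : ℤ}
    (e0 : m0 = 2 * x0 - x2) (e1 : m1 = 2 * x1 - x3) (e2 : m2 = 2 * x2 - x0 - x3)
    (e3 : m3 = 2 * x3 - x1 - x2 - x4) (e4 : m4 = 2 * x4 - x3 - x5) (e5 : m5 = 2 * x5 - x4 - x6)
    (e6 : m6 = 2 * x6 - x5)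
    (h0 : 0 ≤ m0) (h1 : 0 ≤ m1) (h2 : 0 ≤ m2) (h3 : 0 ≤ m3) (h4 : 0 ≤ m4) (h5 : 0 ≤ m5) (h6 : 0 ≤ m6)
    (hn : x0 * m0 + x1 * m1 + x2 * m2 + x3 * m3 + x4 * m4 + x5 * m5 + x6 * m6 = 2) :
    m0 = 1 ∧ m1 = 0 ∧ m2 = 0 ∧ m3 = 0 ∧ m4 = 0 ∧ m5 = 0 ∧ m6 = 0 := by
  have f0 : x0 = 2 * m0 + 2 * m1 + 3 * m2 + 4 * m3 + 3 * m4 + 2 * m5 + m6 := by omega
  have f1 : 2 * x1 = 4 * m0 + 7 * m1 + 8 * m2 + 12 * m3 + 9 * m4 + 6 * m5 + 3 * m6 := by omega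
  have f2 : x2 = 3 * m0 + 4 * m1 + 6 * m2 + 8 * m3 + 6 * m4 + 4 * m5 + 2 * m6 := by omega
  have f3 : x3 = 4 * m0 + 6 * m1 + 8 * m2 + 12 * m3 + 9 * m4 + 6 * m5 + 3 * m6 := by omega
  have f4 : 2 * x4 = 6 * m0 + 9 * m1 + 12 * m2 + 18 * m3 + 15 * m4 + 10 * m5 + 5 * m6 := by omega
  have f5 : x5 = 2 * m0 + 3 * m1 + 4 * m2 + 6 * m3 + 5 * m4 + 4 * m5 + 2 * m6 := by omega
  have f6 : 2 * x6 = 2 * m0 + 3 * m1 + 4 * m2 + 6 * m3 + 5 * m4 + 4 * m5 + 3 * m6 := by omega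
  have g0 := mul_le x0 m0 2 h0 (by omega)
  have g1 := mul_le x1 m1 3 h1 (by omega)
  have g2 := mul_le x2 m2 3 h2 (by omega)
  have g3 := mul_le x3 m3 3 h3 (by omega)
  have g4 := mul_le x4 m4 3 h4 (by omega)
  have g5 := mul_le x5 m5 3 h5 (by omega)
  have g6 := mul_le x6 m6 2 h6 (by omega)
  have : m1 = 0 ∧ m2 = 0 ∧ m3 = 0 ∧ m4 = 0 ∧ m5 = 0 := by
    refine ⟨?_, ?_, ?_, ?_, ?_⟩ <;> linarith
  obtain ⟨r1, r2, r3, r4, r5⟩ := this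
  subst r1 r2 r3 r4 r5
  have r6 : m6 = 0 := by
    have : 2 * m0 + 2 * m6 ≤ 2 := by linarith
    omega
  subst r6
  have r0 : m0 = 1 := by
    have : 2 * m0 + 2 * 0 ≤ 2 := by linarith
    rcases h0.eq_or_lt with h | h
    · rw [← h] at hn
      norm_num at hn
    · omega
  exact ⟨r0, rfl, rfl, rfl, rfl, rfl, rfl⟩

theorem arith6 {x0 x1 x2 x3 x4 x5 m0 m1 m2 m3 m4 m5 : ℤ}
    (e0 : m0 = 2 * x0 - x2) (e1 : m1 = 2 * x1 - x3) (e2 : m2 = 2 * x2 - x0 - x3)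
    (e3 : m3 = 2 * x3 - x1 - x2 - x4) (e4 : m4 = 2 * x4 - x3 - x5) (e5 : m5 = 2 * x5 - x4)
    (h0 : 0 ≤ m0) (h1 : 0 ≤ m1) (h2 : 0 ≤ m2) (h3 : 0 ≤ m3) (h4 : 0 ≤ m4) (h5 : 0 ≤ m5)
    (hn : x0 * m0 + x1 * m1 + x2 * m2 + x3 * m3 + x4 * m4 + x5 * m5 = 2) :
    m1 = 1 ∧ m0 = 0 ∧ m2 = 0 ∧ m3 = 0 ∧ m4 = 0 ∧ m5 = 0 := by
  have f0 : 3 * x0 = 4 * m0 + 3 * m1 + 5 * m2 + 6 * m3 + 4 * m4 + 2 * m5 := by omega
  have f1 : x1 = m0 + 2 * m1 + 2 * m2 + 3 * m3 + 2 * m4 + m5 := by omega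
  have f2 : 3 * x2 = 5 * m0 + 6 * m1 + 10 * m2 + 12 * m3 + 8 * m4 + 4 * m5 := by omega
  have f3 : x3 = 2 * m0 + 3 * m1 + 4 * m2 + 6 * m3 + 4 * m4 + 2 * m5 := by omega
  have f4 : 3 * x4 = 4 * m0 + 6 * m1 + 8 * m2 + 12 * m3 + 10 * m4 + 5 * m5 := by omega
  have f5 : 3 * x5 = 2 * m0 + 3 * m1 + 4 * m2 + 6 * m3 + 5 * m4 + 4 * m5 := by omega
  have g0 := mul_le x0 m0 2 h0 (by omega)
  have g1 := mul_le x1 m1 2 h1 (by omega)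
  have g2 := mul_le x2 m2 3 h2 (by omega)
  have g3 := mul_le x3 m3 3 h3 (by omega)
  have g4 := mul_le x4 m4 3 h4 (by omega)
  have g5 := mul_le x5 m5 2 h5 (by omega)
  have : m2 = 0 ∧ m3 = 0 ∧ m4 = 0 := by
    refine ⟨?_, ?_, ?_⟩ <;> linarith
  obtain ⟨r2, r3, r4⟩ := this
  subst r2 r3 r4
  have hs : 2 * m0 + 2 * m1 + 2 * m5 ≤ 2 := by linarith
  have r0 : m0 = 0 := by omega
  have r5 : m5 = 0 := by omega
  subst r0 r5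
  have r1 : m1 = 1 := by
    rcases h1.eq_or_lt with h | h
    · rw [← h] at hn
      norm_num at hn
    · omega
  exact ⟨r1, rfl, rfl, rfl, rfl, rfl⟩

section

variable {I W : Type*} [Fintype I] [DecidableEq I] [Group W] {M : CoxeterMatrix I}
  {cs : CoxeterSystem M W} {A : I → I → ℤ} {h : IsCartan M A}

/-- the norm -/
theorem norm [Finite W] (h4 : ∀ i j, M i j ≠ 4) (h6 : ∀ i j, M i j ≠ 6) {r : I → ℤ} (hr : IsRoot cs h r) :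
    ∑ j, r j * pairing A j r = 2 := (roots cs h h4 h6).two r hr

theorem nonneg [Finite W] (h4 : ∀ i j, M i j ≠ 4) (h6 : ∀ i j, M i j ≠ 6) {r : I → ℤ} (hr : IsRoot cs h r)
    (hd : ∀ i, 0 ≤ cpr cs h (sr i) r) (i : I) : 0 ≤ pairing A i r := by
  have := hd i
  rwa [← bf_eq_cpr h4 h6 _ hr, (roots cs h h4 h6).symm, bf_sr] at this

theorem bf_pairing [Finite W] (cs : CoxeterSystem M W) (h : IsCartan M A) (h4 : ∀ i j, M i j ≠ 4)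
    (h6 : ∀ i j, M i j ≠ 6) (r : I → ℤ) (i : I) : Bf A (sr i) r = pairing A i r := by
  rw [(roots cs h h4 h6).symm, bf_sr]

end

theorem dom_E6 {W : Type*} [Group W] [Finite W] (cs : CoxeterSystem CoxeterMatrix.E₆ W) {A : Fin 6 → Fin 6 → ℤ}
    (h : IsCartan CoxeterMatrix.E₆ A) {r : Fin 6 → ℤ} (hr : IsRoot cs h r) (hd : ∀ i, 0 ≤ cpr cs h (sr i) r) :
    Bf A (sr 1) r = 1 ∧ ∀ i, i ≠ 1 → Bf A (sr i) r = 0 := by
  have h4 : ∀ i j, CoxeterMatrix.E₆ i j ≠ 4 := by intro i; fin_cases i <;> decide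
  have h6 : ∀ i j, CoxeterMatrix.E₆ i j ≠ 6 := by intro i; fin_cases i <;> decide
  have hA : ∀ i j, A i j = (![![2, 0, -1, 0, 0, 0], ![0, 2, 0, -1, 0, 0], ![-1, 0, 2, -1, 0, 0], ![0, -1, -1, 2, -1, 0], ![0, 0, 0, -1, 2, -1], ![0, 0, 0, 0, -1, 2]] :
        Fin 6 → Fin 6 → ℤ) i j :=
      fun i j => (cart_eq h4 h6 h i j).trans (Hirr.mat6 i j)
  have hn := norm h4 h6 hr
  have hp := nonneg h4 h6 hr hd
  simp only [bf_pairing cs h h4 h6]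
  rw [Fin.sum_univ_six] at hn
  have e0 : pairing A 0 r = 2 * r 0 - r 2 := by simp [pairing, Fin.sum_univ_six, hA]; ring
  have e1 : pairing A 1 r = 2 * r 1 - r 3 := by simp [pairing, Fin.sum_univ_six, hA]; ring
  have e2 : pairing A 2 r = 2 * r 2 - r 0 - r 3 := by simp [pairing, Fin.sum_univ_six, hA]; ring
  have e3 : pairing A 3 r = 2 * r 3 - r 1 - r 2 - r 4 := by simp [pairing, Fin.sum_univ_six, hA]; ring
  have e4 : pairing A 4 r = 2 * r 4 - r 3 - r 5 := by simp [pairing, Fin.sum_univ_six, hA]; ring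
  have e5 : pairing A 5 r = 2 * r 5 - r 4 := by simp [pairing, Fin.sum_univ_six, hA]; ring
  obtain ⟨k1, k0, k2, k3, k4, k5⟩ := arith6 e0 e1 e2 e3 e4 e5 (hp 0) (hp 1) (hp 2) (hp 3) (hp 4) (hp 5) hn
  refine ⟨k1, fun i hi => ?_⟩
  fin_cases i
  · exact k0
  · exact absurd rfl hi
  · exact k2
  · exact k3
  · exact k4
  · exact k5

theorem dom_E7 {W : Type*} [Group W] [Finite W] (cs : CoxeterSystem CoxeterMatrix.E₇ W) {A : Fin 7 → Fin 7 → ℤ}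
    (h : IsCartan CoxeterMatrix.E₇ A) {r : Fin 7 → ℤ} (hr : IsRoot cs h r) (hd : ∀ i, 0 ≤ cpr cs h (sr i) r) :
    Bf A (sr 0) r = 1 ∧ ∀ i, i ≠ 0 → Bf A (sr i) r = 0 := by
  have h4 : ∀ i j, CoxeterMatrix.E₇ i j ≠ 4 := by intro i; fin_cases i <;> decide
  have h6 : ∀ i j, CoxeterMatrix.E₇ i j ≠ 6 := by intro i; fin_cases i <;> decide
  have hA : ∀ i j, A i j = (![![2, 0, -1, 0, 0, 0, 0], ![0, 2, 0, -1, 0, 0, 0], ![-1, 0, 2, -1, 0, 0, 0], ![0, -1, -1, 2, -1, 0, 0], ![0, 0, 0, -1, 2, -1, 0], ![0, 0, 0, 0, -1, 2, -1], ![0, 0, 0, 0, 0, -1, 2]] :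
        Fin 7 → Fin 7 → ℤ) i j :=
      fun i j => (cart_eq h4 h6 h i j).trans (Hirr.mat7 i j)
  have hn := norm h4 h6 hr
  have hp := nonneg h4 h6 hr hd
  simp only [bf_pairing cs h h4 h6]
  rw [Fin.sum_univ_seven] at hn
  have e0 : pairing A 0 r = 2 * r 0 - r 2 := by simp [pairing, Fin.sum_univ_seven, hA]; ring
  have e1 : pairing A 1 r = 2 * r 1 - r 3 := by simp [pairing, Fin.sum_univ_seven, hA]; ring
  have e2 : pairing A 2 r = 2 * r 2 - r 0 - r 3 := by simp [pairing, Fin.sum_univ_seven, hA]; ring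
  have e3 : pairing A 3 r = 2 * r 3 - r 1 - r 2 - r 4 := by simp [pairing, Fin.sum_univ_seven, hA]; ring
  have e4 : pairing A 4 r = 2 * r 4 - r 3 - r 5 := by simp [pairing, Fin.sum_univ_seven, hA]; ring
  have e5 : pairing A 5 r = 2 * r 5 - r 4 - r 6 := by simp [pairing, Fin.sum_univ_seven, hA]; ring
  have e6 : pairing A 6 r = 2 * r 6 - r 5 := by simp [pairing, Fin.sum_univ_seven, hA]; ring
  obtain ⟨k0, k1, k2, k3, k4, k5, k6⟩ :=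
    arith7 e0 e1 e2 e3 e4 e5 e6 (hp 0) (hp 1) (hp 2) (hp 3) (hp 4) (hp 5) (hp 6) hn
  refine ⟨k0, fun i hi => ?_⟩
  fin_cases i
  · exact absurd rfl hi
  · exact k1
  · exact k2
  · exact k3
  · exact k4
  · exact k5
  · exact k6

theorem dom_E8 {W : Type*} [Group W] [Finite W] (cs : CoxeterSystem CoxeterMatrix.E₈ W) {A : Fin 8 → Fin 8 → ℤ}
    (h : IsCartan CoxeterMatrix.E₈ A) {r : Fin 8 → ℤ} (hr : IsRoot cs h r) (hd : ∀ i, 0 ≤ cpr cs h (sr i) r) :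
    Bf A (sr 7) r = 1 ∧ ∀ i, i ≠ 7 → Bf A (sr i) r = 0 := by
  have h4 : ∀ i j, CoxeterMatrix.E₈ i j ≠ 4 := by intro i; fin_cases i <;> decide
  have h6 : ∀ i j, CoxeterMatrix.E₈ i j ≠ 6 := by intro i; fin_cases i <;> decide
  have hA : ∀ i j, A i j = (![![2, 0, -1, 0, 0, 0, 0, 0], ![0, 2, 0, -1, 0, 0, 0, 0], ![-1, 0, 2, -1, 0, 0, 0, 0], ![0, -1, -1, 2, -1, 0, 0, 0], ![0, 0, 0, -1, 2, -1, 0, 0], ![0, 0, 0, 0, -1, 2, -1, 0], ![0, 0, 0, 0, 0, -1, 2, -1], ![0, 0, 0, 0, 0, 0, -1, 2]] :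
        Fin 8 → Fin 8 → ℤ) i j :=
      fun i j => (cart_eq h4 h6 h i j).trans (Hirr.mat8 i j)
  have hn := norm h4 h6 hr
  have hp := nonneg h4 h6 hr hd
  simp only [bf_pairing cs h h4 h6]
  rw [Fin.sum_univ_eight] at hn
  have e0 : pairing A 0 r = 2 * r 0 - r 2 := by simp [pairing, Fin.sum_univ_eight, hA]; ring
  have e1 : pairing A 1 r = 2 * r 1 - r 3 := by simp [pairing, Fin.sum_univ_eight, hA]; ring
  have e2 : pairing A 2 r = 2 * r 2 - r 0 - r 3 := by simp [pairing, Fin.sum_univ_eight, hA]; ring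
  have e3 : pairing A 3 r = 2 * r 3 - r 1 - r 2 - r 4 := by simp [pairing, Fin.sum_univ_eight, hA]; ring
  have e4 : pairing A 4 r = 2 * r 4 - r 3 - r 5 := by simp [pairing, Fin.sum_univ_eight, hA]; ring
  have e5 : pairing A 5 r = 2 * r 5 - r 4 - r 6 := by simp [pairing, Fin.sum_univ_eight, hA]; ring
  have e6 : pairing A 6 r = 2 * r 6 - r 5 - r 7 := by simp [pairing, Fin.sum_univ_eight, hA]; ring
  have e7 : pairing A 7 r = 2 * r 7 - r 6 := by simp [pairing, Fin.sum_univ_eight, hA]; ring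
  obtain ⟨k7, k0, k1, k2, k3, k4, k5, k6⟩ :=
    arith8 e0 e1 e2 e3 e4 e5 e6 e7 (hp 0) (hp 1) (hp 2) (hp 3) (hp 4) (hp 5) (hp 6) (hp 7) hn
  refine ⟨k7, fun i hi => ?_⟩
  fin_cases i
  · exact k0
  · exact k1
  · exact k2
  · exact k3
  · exact k4
  · exact k5
  · exact k6
  · exact absurd rfl hi

end Cfsg.Agent.KFacts.SLRow.DomE
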