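import Cfsg.Agent.KFacts.RgdAutFacts
import Cfsg.Agent.KFacts.RgdKap
import Cfsg.Agent.KFacts.RgdFilt

/-!
# Simply laced groups of characteristic two of rank at least `3`: facts without root group data

For a finite group `K` with `IsSL q l K` (`PSL_{l+1}(q)`, `PΩ⁺_{2l}(q)`, `E_l(q)`, `q` even, `l ≥ 3`):
`charTwo`, `core`, `notSE`, `inner`, and for `q = 2` the facts `D4.AutFacts K`.
-/

set_option autoImplicit false
set_option linter.unusedSectionVars false

namespace Cfsg.Agent.KFacts.SLRow.Facts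

open CoxeterSystem Cfsg.Agent.ChevalleyStructure.CoxeterGeom Cfsg.Agent.Tits.Roots Cfsg.Agent.Tits.Core
  Cfsg.Agent.Tits.Exchange Cfsg.Agent.Nodes.Reps Cfsg.Agent.Nodes.BNOf Cfsg.Agent.Nodes.StabComb
  Cfsg.Agent.Nodes.Bruhat Cfsg.Agent.Nodes.Coroot Cfsg.Agent.Nodes.RGDLib Cfsg.Agent.KFacts.RgdCent
  Cfsg.Agent.KFacts.RgdSL Cfsg.Agent.KFacts.RgdTI Cfsg.Agent.KFacts.RgdOdd
  Cfsg.Agent.KFacts.SLRow.Def Cfsg.Agent.KFacts.RgdKap

variable {I W Y : Type*} [Fintype I] [DecidableEq I] [Group W] [Group Y] {M : CoxeterMatrix I}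
  {q : ℕ} {cs : CoxeterSystem M W} {A : I → I → ℤ} {h : IsCartan M A} {T : Subgroup Y} {n : I → Y}
  {X : (I → ℤ) → Subgroup Y}

section

variable [Finite W] [Finite Y] (D : Datum ⊤ q cs h T n X)

include D

theorem conn : RgdCharP.Conn M := by
  intro J hJ hJ'
  have h1 : Jᶜ.Nonempty := by
    by_contra h2
    rw [Set.not_nonempty_iff_eq_empty, Set.compl_empty_iff] at h2
    exact hJ' h2
  obtain ⟨i, hi, j, hj, hij⟩ := D.irr J hJ h1
  exact ⟨i, hi, j, hj, hij⟩

theorem nonempty : Nonempty I := Fintype.card_pos_iff.1 (lt_of_lt_of_le (by norm_num) D.three)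

theorem exists_ne' (i : I) : ∃ j : I, j ≠ i := by
  have : Nontrivial I := Fintype.one_lt_card_iff_nontrivial.1 (lt_of_lt_of_le (by norm_num) D.three)
  exact exists_ne i

theorem bt : RgdCharP.BT cs h 2 T X := by
  intro K hK hK1
  have : Fact (Nat.Prime 2) := ⟨Nat.prime_two⟩
  exact RgdBorelTits.borel_tits (hF := (RgdFilt.intComm_of_sl D.rgd (sl_of D.h4 D.h6)).filt)
    (R := D.rgd) D.GG_eq hK hK1

theorem ab (x : I → ℤ) (hx : IsRoot cs h x) : ∀ a ∈ X x, ∀ b ∈ X x, a * b = b * a := by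
  intro a ha b hb
  have hs := sl_of (cs := cs) (h := h) D.h4 D.h6
  obtain ⟨y, hy, hxy⟩ := nb_of D.h4 D.h6 D.irr D.three hx
  -- `x = (x - y) + y`
  have hd := isRoot_sub hx hy hxy
  have hA : A2 cs h (x - y) y := hs.a2 hd hy (by
    rw [sub_eq_add_neg, cpr_add cs h _ _ hy, cpr_neg cs h _ hy, hxy, cpr_self cs h hy]; norm_num)
  refine A2.comm_self D.rgd hA ?_ ?_
  · rwa [sub_add_cancel]
  · rwa [sub_add_cancel]

theorem charTwo' : IsCharacteristicTwoType Y := by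
  have := nonempty D
  exact RgdAutFacts.char_two_type D.rgd D.GG_eq (bt D) D.cent (conn D)

theorem core' {a : Y} (ha : orderOf a = 2) : centralizerPPrimeCore 2 a = ⊥ :=
  RgdAutFacts.core_two D.rgd D.GG_eq (bt D) D.cent (conn D) ha

theorem notSE' (H : Subgroup Y) : ¬ IsStronglyEmbedded H := by
  have := nonempty D
  exact RgdAutFacts.not_stronglyEmbedded D.rgd D.GG_eq (exists_ne' D) H

theorem inner' (S : Sylow 2 Y) (φ : MulAut Y) (hφ : ∀ s ∈ S, φ s = s) : ∃ s ∈ S, φ = MulAut.conj s :=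
  RgdAutFacts.inner D.rgd D.GG_eq (fun i => ab D _ (isRoot_sr cs h i)) D.gen S φ hφ

end

theorem autFacts' [Finite W] [Finite Y] (D : Datum ⊤ 2 cs h T n X) : OddHalf.D4.AutFacts Y := by
  have := nonempty D
  exact RgdAutFacts.autFacts_SL D.rgd D.GG_eq (exists_ne' D) (bt D) D.cent (conn D) D.gen (sl_of D.h4 D.h6)
    (fun r hr => orth_of D.h4 D.h6 D.irr hr) (lr_of D.h4 D.h6 D.irr D.three D.rgd)
    fun i => D.card _ (isRoot_sr cs h i)

/-! ### Without root group data -/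

variable {l : ℕ} {K : Type*} [Group K] [Finite K]

theorem charTwo (hK : IsSL q l K) : IsCharacteristicTwoType K := by
  obtain ⟨M, A, h, T, n, X, hW, D⟩ := hK
  exact charTwo' D

theorem core (hK : IsSL q l K) {a : K} (ha : orderOf a = 2) : centralizerPPrimeCore 2 a = ⊥ := by
  obtain ⟨M, A, h, T, n, X, hW, D⟩ := hK
  exact core' D ha

theorem notSE (hK : IsSL q l K) (H : Subgroup K) : ¬ IsStronglyEmbedded H := by
  obtain ⟨M, A, h, T, n, X, hW, D⟩ := hK
  exact notSE' D H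

theorem inner (hK : IsSL q l K) (S : Sylow 2 K) (φ : MulAut K) (hφ : ∀ s ∈ S, φ s = s) :
    ∃ s ∈ S, φ = MulAut.conj s := by
  obtain ⟨M, A, h, T, n, X, hW, D⟩ := hK
  exact inner' D S φ hφ

theorem autFacts (hK : IsSL 2 l K) : OddHalf.D4.AutFacts K := by
  obtain ⟨M, A, h, T, n, X, hW, D⟩ := hK
  exact autFacts' D

end Cfsg.Agent.KFacts.SLRow.Facts
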