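import Cfsg.Agent.OddHalf.SL.Index
import Cfsg.Agent.Nodes.RootsA
import Cfsg.Agent.KFacts.SLRow.Psl

/-!
# Orthogonal roots have neighbours (K-facts for S1765, D7, `q = 2`)

`IrrPerp cs h` : every root `b` orthogonal to a root `r` has a root `d` orthogonal to `r` with `(b, d) = 1`
[the hypothesis of `D7Out/HasPOf.hasP_two` and of `D7Ex/KTwo.perfTwo`].

* `hirr_of` : a criterion (the extended diagram is not used: `r` is a simple root at an end of the diagram);
* `hirr_A` (`n ≥ 4`), `hirr_E6`, `hirr_E7`, `hirr_E8`.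
-/

set_option autoImplicit false
set_option linter.unusedSectionVars false

namespace Cfsg.Agent.KFacts.SLRow.Hirr

open CoxeterSystem Cfsg.Agent.ChevalleyStructure.CoxeterGeom Cfsg.Agent.Tits.Roots Cfsg.Agent.Tits.Core
  Cfsg.Agent.Nodes.Reps Cfsg.Agent.Nodes.Coroot Cfsg.Agent.Nodes.SimplyLaced Cfsg.Agent.OddHalf.SL.Index
  Cfsg.Agent.KFacts.SLRow.Def Cfsg.Agent.Nodes.ZFam

section

variable {I W : Type*} [Fintype I] [DecidableEq I] [Group W] {M : CoxeterMatrix I}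
  (cs : CoxeterSystem M W) {A : I → I → ℤ} (h : IsCartan M A)

/-- Every root orthogonal to `r` has a neighbour orthogonal to `r`. -/
def HirrAt (r : I → ℤ) : Prop :=
  ∀ b, IsRoot cs h b → Bf A b r = 0 → ∃ d, IsRoot cs h d ∧ Bf A d r = 0 ∧ Bf A b d = 1

/-- Every root orthogonal to a root `r` has a neighbour orthogonal to `r`. -/
def IrrPerp : Prop := ∀ r, IsRoot cs h r → HirrAt cs h r

variable {cs h}

/-- The property moves along `60°` steps. -/
theorem HirrAt.step [Finite W] (h4 : ∀ i j, M i j ≠ 4) (h6 : ∀ i j, M i j ≠ 6) {r s : I → ℤ}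
    (hr : IsRoot cs h r) (hs : IsRoot cs h s) (hrs : Bf A r s = 1) (H : HirrAt cs h r) : HirrAt cs h s := by
  have R := roots cs h h4 h6
  have hv : IsRoot cs h (r - s) := R.sub_mem hr hs hrs
  obtain ⟨v, hv'⟩ : ∃ v, v = r - s := ⟨_, rfl⟩
  rw [← hv'] at hv
  have hvv := R.two v hv
  -- the reflection in `v`
  have hσ : ∀ x, IsRoot cs h x → IsRoot cs h (x - Bf A x v • v) := fun x hx => by
    rw [bf_eq_cpr h4 h6 x hv]; exact isRoot_refl cs h hx hv
  have e1 : ∀ x y, Bf A (x - Bf A x v • v) (y - Bf A y v • v) = Bf A x y := fun x y => by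
    rw [R.sub_left, R.sub_right, R.sub_right, bf_smul_left, bf_smul_left, R.symm x (Bf A y v • v),
      R.symm v (Bf A y v • v), bf_smul_left, bf_smul_left, hvv, R.symm v y, R.symm v x]
    ring
  have e2 : ∀ x, (x - Bf A x v • v) - Bf A (x - Bf A x v • v) v • v = x := fun x => by
    rw [R.sub_left, bf_smul_left, hvv, sub_sub, ← add_smul,
      show Bf A x v + (Bf A x v - Bf A x v * 2) = 0 by ring, zero_smul, sub_zero]
  have hrv : Bf A r v = 1 := by
    rw [hv', R.sub_right, R.two r hr, hrs]; norm_num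
  have er : r - Bf A r v • v = s := by
    rw [hrv, one_smul, hv', sub_sub_cancel]
  have es : s - Bf A s v • v = r := by
    rw [← er, e2]
  intro b hb hbs
  obtain ⟨d, hd, hdr, hbd⟩ := H (b - Bf A b v • v) (hσ b hb) (by rw [← es, e1, hbs])
  refine ⟨d - Bf A d v • v, hσ d hd, by rw [← er, e1, hdr], ?_⟩
  rw [← hbd, ← e1 (b - Bf A b v • v) d, e2]

theorem cartan_adj (h : IsCartan M A) {i j : I} (hij : M i j = 3) : A i j = -1 := by
  have hne : i ≠ j := by
    rintro rfl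
    rw [M.diagonal] at hij
    omega
  rcases h.rel i j hne with ⟨h0, h1, h2⟩ | ⟨h0, h1, h2⟩ | ⟨h0, -⟩ | ⟨h0, -⟩ <;> omega

theorem cartan_nadj (h : IsCartan M A) {i j : I} (hij : M i j = 2) : A i j = 0 := by
  have hne : i ≠ j := by
    rintro rfl
    rw [M.diagonal] at hij
    omega
  rcases h.rel i j hne with ⟨h0, h1, h2⟩ | ⟨h0, h1, h2⟩ | ⟨h0, -⟩ | ⟨h0, -⟩ <;> omega

/-- **The criterion.** -/
theorem hirr_of [Finite W] (h4 : ∀ i j, M i j ≠ 4) (h6 : ∀ i j, M i j ≠ 6) (hc : Conn M)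
    (h2 : 2 ≤ Fintype.card I) {i0 j0 : I} (h3 : M i0 j0 = 3)
    (hleaf : ∀ i, i ≠ i0 → i ≠ j0 → M i i0 = 2)
    (hnb : ∀ i, i ≠ i0 → i ≠ j0 → ∃ k, k ≠ i0 ∧ k ≠ j0 ∧ M k i = 3)
    (hlin : ∀ x : I → ℤ, (∀ i, i ≠ j0 → pairing A i x = 0) → x i0 = 1 → False) : IrrPerp cs h := by
  have R := roots cs h h4 h6
  intro r hr
  refine ind (cs := cs) (h := h) h4 h6 hc h2 (P := HirrAt cs h) (isRoot_sr cs h i0) ?_
    (fun r s hr hs hrs H => H.step h4 h6 hr hs hrs) hr
  intro b hb hb0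
  by_contra hcon
  push Not at hcon
  have hij : i0 ≠ j0 := by
    rintro rfl
    rw [M.diagonal] at h3
    omega
  -- `b` is orthogonal to the simple roots outside `i0`, `j0`
  have hi : ∀ i, i ≠ i0 → i ≠ j0 → Bf A b (sr i) = 0 := by
    intro i hi1 hi2
    have hsi := isRoot_sr cs h i
    have o : Bf A (sr i) (sr i0) = 0 := by
      rw [bf_sr, pairing_sr']
      exact cartan_nadj h (by rw [M.symmetric]; exact hleaf i hi1 hi2)
    have b1 := R.le b hb _ hsi
    have b2 := R.ge hb hsi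
    obtain ⟨k, hk1, hk2, hk3⟩ := hnb i hi1 hi2
    have hsk := isRoot_sr cs h k
    have ok : Bf A (sr k) (sr i0) = 0 := by
      rw [bf_sr, pairing_sr']
      exact cartan_nadj h (by rw [M.symmetric]; exact hleaf k hk1 hk2)
    have ik : Bf A (sr i) (sr k) = -1 := by
      rw [bf_sr, pairing_sr']
      exact cartan_adj h hk3
    have n1 : Bf A b (sr i) ≠ 1 := fun e => hcon (sr i) hsi o e
    have n2 : Bf A b (sr i) ≠ -1 := fun e => hcon (-sr i) (R.neg_mem _ hsi) (by rw [R.neg_left, o]; rfl)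
      (by rw [R.neg_right, e]; norm_num)
    have n3 : Bf A b (sr i) ≠ 2 := fun e => by
      have := R.eq b hb _ hsi e
      apply hcon (-sr k) (R.neg_mem _ hsk) (by rw [R.neg_left, ok]; rfl)
      rw [this, R.neg_right, ik]; norm_num
    have n4 : Bf A b (sr i) ≠ -2 := fun e => by
      have := R.eq_neg hb hsi e
      apply hcon (sr k) hsk ok
      rw [this, R.neg_left, ik]; norm_num
    omega
  have hp : ∀ i, i ≠ j0 → pairing A i b = 0 := by
    intro i hi2
    rw [← bf_sr]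
    by_cases hi1 : i = i0
    · rw [hi1, hb0]
    · exact hi i hi1 hi2
  -- the norm of `b`
  have hn : b j0 * pairing A j0 b = 2 := by
    rw [← R.two b hb]
    unfold Bf
    rw [Finset.sum_eq_single j0]
    · intro j _ hj
      rw [hp j hj, mul_zero]
    · intro hj
      exact absurd (Finset.mem_univ _) hj
  -- the leaf
  have hl : 2 * b i0 = b j0 := by
    have e := hp i0 hij
    unfold pairing at e
    rw [← Finset.add_sum_erase _ _ (Finset.mem_univ i0),
      ← Finset.add_sum_erase _ _ (Finset.mem_erase.2 ⟨hij.symm, Finset.mem_univ j0⟩), Finset.sum_eq_zero, h.diag,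
      cartan_adj h h3] at e
    · omega
    · intro k hk
      rw [Finset.mem_erase, Finset.mem_erase] at hk
      rw [cartan_nadj h (by rw [M.symmetric]; exact hleaf k hk.2.1 hk.1), zero_mul]
  have hu : b i0 * pairing A j0 b = 1 := by
    rw [← hl, mul_assoc] at hn
    omega
  rcases Int.eq_one_or_neg_one_of_mul_eq_one hu with e | e
  · exact hlin b hp e
  · refine hlin (-b) (fun i hi => ?_) ?_
    · have := pairing_smul (A := A) i (-1) b
      rw [neg_one_smul, hp i hi] at this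
      rw [this]; norm_num
    · rw [Pi.neg_apply, e]; norm_num

end

/-! ### Exceptional types -/

theorem mat6 : ∀ i j, (if i = j then (2 : ℤ) else if CoxeterMatrix.E₆ i j = 3 then -1 else 0) =
    (![![2, 0, -1, 0, 0, 0], ![0, 2, 0, -1, 0, 0], ![-1, 0, 2, -1, 0, 0], ![0, -1, -1, 2, -1, 0], ![0, 0, 0, -1, 2, -1], ![0, 0, 0, 0, -1, 2]] :
      Fin 6 → Fin 6 → ℤ) i j := by
  intro i j
  fin_cases i <;> fin_cases j <;> rfl

theorem hirr_E6 {W : Type*} [Group W] [Finite W] (cs : CoxeterSystem CoxeterMatrix.E₆ W) {A : Fin 6 → Fin 6 → ℤ}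
    (h : IsCartan CoxeterMatrix.E₆ A) : IrrPerp cs h := by
  have h4 : ∀ i j, CoxeterMatrix.E₆ i j ≠ 4 := by intro i; fin_cases i <;> decide
  have h6 : ∀ i j, CoxeterMatrix.E₆ i j ≠ 6 := by intro i; fin_cases i <;> decide
  refine hirr_of (i0 := 0) (j0 := 2) h4 h6
    (conn_of_parent ![0, 3, 1, 2, 3, 4] ![0, 3, 0, 2, 3, 4] (by decide) (by decide) (by decide)) (by norm_num) rfl
    (by intro i; fin_cases i <;> decide)
    (fun i => ?_) (fun x hx h0 => ?_)
  · intro h1 h2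
    refine ⟨(![0, 3, 0, 1, 3, 4] : Fin 6 → Fin 6) i, ?_, ?_, ?_⟩ <;> revert h1 h2 <;> revert i <;> decide
  · have hA : ∀ i j, A i j = (![![2, 0, -1, 0, 0, 0], ![0, 2, 0, -1, 0, 0], ![-1, 0, 2, -1, 0, 0], ![0, -1, -1, 2, -1, 0], ![0, 0, 0, -1, 2, -1], ![0, 0, 0, 0, -1, 2]] :
        Fin 6 → Fin 6 → ℤ) i j :=
      fun i j => (cart_eq h4 h6 h i j).trans (mat6 i j)
    have e0 := hx 0 (by decide)
    have e1 := hx 1 (by decide)
    have e3 := hx 3 (by decide)
    have e4 := hx 4 (by decide)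
    have e5 := hx 5 (by decide)
    simp [pairing, Fin.sum_univ_six, hA] at e0 e1 e3 e4 e5
    omega

theorem mat7 : ∀ i j, (if i = j then (2 : ℤ) else if CoxeterMatrix.E₇ i j = 3 then -1 else 0) =
    (![![2, 0, -1, 0, 0, 0, 0], ![0, 2, 0, -1, 0, 0, 0], ![-1, 0, 2, -1, 0, 0, 0], ![0, -1, -1, 2, -1, 0, 0], ![0, 0, 0, -1, 2, -1, 0], ![0, 0, 0, 0, -1, 2, -1], ![0, 0, 0, 0, 0, -1, 2]] :
      Fin 7 → Fin 7 → ℤ) i j := by
  intro i j
  fin_cases i <;> fin_cases j <;> rfl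

theorem hirr_E7 {W : Type*} [Group W] [Finite W] (cs : CoxeterSystem CoxeterMatrix.E₇ W) {A : Fin 7 → Fin 7 → ℤ}
    (h : IsCartan CoxeterMatrix.E₇ A) : IrrPerp cs h := by
  have h4 : ∀ i j, CoxeterMatrix.E₇ i j ≠ 4 := by intro i; fin_cases i <;> decide
  have h6 : ∀ i j, CoxeterMatrix.E₇ i j ≠ 6 := by intro i; fin_cases i <;> decide
  refine hirr_of (i0 := 0) (j0 := 2) h4 h6
    (conn_of_parent ![0, 3, 1, 2, 3, 4, 5] ![0, 3, 0, 2, 3, 4, 5] (by decide) (by decide) (by decide)) (by norm_num) rfl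
    (by intro i; fin_cases i <;> decide)
    (fun i => ?_) (fun x hx h0 => ?_)
  · intro h1 h2
    refine ⟨(![0, 3, 0, 1, 3, 4, 5] : Fin 7 → Fin 7) i, ?_, ?_, ?_⟩ <;> revert h1 h2 <;> revert i <;> decide
  · have hA : ∀ i j, A i j = (![![2, 0, -1, 0, 0, 0, 0], ![0, 2, 0, -1, 0, 0, 0], ![-1, 0, 2, -1, 0, 0, 0], ![0, -1, -1, 2, -1, 0, 0], ![0, 0, 0, -1, 2, -1, 0], ![0, 0, 0, 0, -1, 2, -1], ![0, 0, 0, 0, 0, -1, 2]] :
        Fin 7 → Fin 7 → ℤ) i j :=
      fun i j => (cart_eq h4 h6 h i j).trans (mat7 i j)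
    have e0 := hx 0 (by decide)
    have e1 := hx 1 (by decide)
    have e3 := hx 3 (by decide)
    have e4 := hx 4 (by decide)
    have e5 := hx 5 (by decide)
    have e6 := hx 6 (by decide)
    simp [pairing, Fin.sum_univ_seven, hA] at e0 e1 e3 e4 e5 e6
    omega

theorem mat8 : ∀ i j, (if i = j then (2 : ℤ) else if CoxeterMatrix.E₈ i j = 3 then -1 else 0) =
    (![![2, 0, -1, 0, 0, 0, 0, 0], ![0, 2, 0, -1, 0, 0, 0, 0], ![-1, 0, 2, -1, 0, 0, 0, 0], ![0, -1, -1, 2, -1, 0, 0, 0], ![0, 0, 0, -1, 2, -1, 0, 0], ![0, 0, 0, 0, -1, 2, -1, 0], ![0, 0, 0, 0, 0, -1, 2, -1], ![0, 0, 0, 0, 0, 0, -1, 2]] :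
      Fin 8 → Fin 8 → ℤ) i j := by
  intro i j
  fin_cases i <;> fin_cases j <;> rfl

theorem hirr_E8 {W : Type*} [Group W] [Finite W] (cs : CoxeterSystem CoxeterMatrix.E₈ W) {A : Fin 8 → Fin 8 → ℤ}
    (h : IsCartan CoxeterMatrix.E₈ A) : IrrPerp cs h := by
  have h4 : ∀ i j, CoxeterMatrix.E₈ i j ≠ 4 := by intro i; fin_cases i <;> decide
  have h6 : ∀ i j, CoxeterMatrix.E₈ i j ≠ 6 := by intro i; fin_cases i <;> decide
  refine hirr_of (i0 := 0) (j0 := 2) h4 h6
    (conn_of_parent ![0, 3, 1, 2, 3, 4, 5, 6] ![0, 3, 0, 2, 3, 4, 5, 6] (by decide) (by decide) (by decide)) (by norm_num) rfl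
    (by intro i; fin_cases i <;> decide)
    (fun i => ?_) (fun x hx h0 => ?_)
  · intro h1 h2
    refine ⟨(![0, 3, 0, 1, 3, 4, 5, 6] : Fin 8 → Fin 8) i, ?_, ?_, ?_⟩ <;> revert h1 h2 <;> revert i <;> decide
  · have hA : ∀ i j, A i j = (![![2, 0, -1, 0, 0, 0, 0, 0], ![0, 2, 0, -1, 0, 0, 0, 0], ![-1, 0, 2, -1, 0, 0, 0, 0], ![0, -1, -1, 2, -1, 0, 0, 0], ![0, 0, 0, -1, 2, -1, 0, 0], ![0, 0, 0, 0, -1, 2, -1, 0], ![0, 0, 0, 0, 0, -1, 2, -1], ![0, 0, 0, 0, 0, 0, -1, 2]] :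
        Fin 8 → Fin 8 → ℤ) i j :=
      fun i j => (cart_eq h4 h6 h i j).trans (mat8 i j)
    have e0 := hx 0 (by decide)
    have e1 := hx 1 (by decide)
    have e3 := hx 3 (by decide)
    have e4 := hx 4 (by decide)
    have e5 := hx 5 (by decide)
    have e6 := hx 6 (by decide)
    have e7 := hx 7 (by decide)
    simp [pairing, Fin.sum_univ_eight, hA] at e0 e1 e3 e4 e5 e6 e7
    omega

/-! ### Type `A` -/

open Cfsg.Agent.LieRecognition.BNCox (cA cA_apply) in
theorem hirr_A {n : ℕ} (hn : 4 ≤ n) {W : Type*} [Group W] [Finite W] (cs : CoxeterSystem (cA n) W)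
    {A : Fin n → Fin n → ℤ} (h : IsCartan (cA n) A) : IrrPerp cs h := by
  have h4 : ∀ i j, cA n i j ≠ 4 := fun i j => (Psl.cA_ne i j).1
  have h6 : ∀ i j, cA n i j ≠ 6 := fun i j => (Psl.cA_ne i j).2
  have h3 : ∀ i j : Fin n, ((i : ℕ) + 1 = j ∨ (j : ℕ) + 1 = i) → cA n i j = 3 := by
    intro i j hij
    rw [cA_apply]
    unfold Cfsg.Agent.LieRecognition.CoxClass.mA
    split_ifs <;> omega
  refine hirr_of (i0 := ⟨0, by omega⟩) (j0 := ⟨1, by omega⟩) h4 h6 Psl.conn_cA (by simp; omega) (h3 _ _ (Or.inl rfl))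
    (fun i h1 h2 => ?_) (fun i h1 h2 => ?_) (fun x hx h0 => ?_)
  · have h1' : (i : ℕ) ≠ 0 := fun e => h1 (Fin.ext e)
    have h2' : (i : ℕ) ≠ 1 := fun e => h2 (Fin.ext e)
    rw [cA_apply]
    show (if (i : ℕ) = 0 then 1 else if (i : ℕ) + 1 = 0 ∨ 0 + 1 = (i : ℕ) then 3 else 2) = 2
    rw [if_neg h1', if_neg (by rintro (e | e) <;> omega)]
  · have h1' : (i : ℕ) ≠ 0 := fun e => h1 (Fin.ext e)
    have h2' : (i : ℕ) ≠ 1 := fun e => h2 (Fin.ext e)
    have hi := i.2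
    by_cases hl : (i : ℕ) = 2
    · refine ⟨⟨3, by omega⟩, ?_, ?_, h3 _ _ (Or.inr ?_)⟩
      · intro e; exact absurd (congrArg Fin.val e) (by norm_num)
      · intro e; exact absurd (congrArg Fin.val e) (by norm_num)
      · rw [hl]
    · refine ⟨⟨i - 1, by omega⟩, ?_, ?_, h3 _ _ (Or.inl ?_)⟩
      · intro e; have := congrArg Fin.val e; dsimp only at this; omega
      · intro e; have := congrArg Fin.val e; dsimp only at this; omega
      · dsimp only; omega
  · obtain ⟨g, hg⟩ : ∃ g : ℕ → ℤ, g = fun j => if hj : j < n then x ⟨j, hj⟩ else 0 := ⟨_, rfl⟩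
    have gx : x = fun k : Fin n => g k.val := by
      funext k
      rw [hg]
      dsimp only
      rw [dif_pos k.2]
    have gn : g n = 0 := by
      rw [hg]
      exact dif_neg (lt_irrefl n)
    have g0 : g 0 = 1 := by
      rw [gx] at h0
      exact h0
    have key : ∀ i, i < n → i ≠ 1 → 2 * g i - g (i + 1) - (if i = 0 then 0 else g (i - 1)) = 0 := by
      intro i hi h1
      have e := hx ⟨i, hi⟩ (fun e => h1 (congrArg Fin.val e))
      rw [gx, Cfsg.Agent.Nodes.RootsA.pairing_eq h ⟨i, hi⟩ g gn] at e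
      exact e
    have g1 : g 1 = 2 := by
      have := key 0 (by omega) (by omega)
      rw [if_pos rfl, g0] at this
      norm_num at this
      omega
    obtain ⟨c, hcc⟩ : ∃ c, c = g 1 - g 2 := ⟨_, rfl⟩
    have lin : ∀ k, k + 1 ≤ n → g (k + 1) = 2 - k * c ∧ (k + 2 ≤ n → g (k + 2) = 2 - (k + 1) * c) := by
      intro k
      induction k with
      | zero =>
        intro _
        refine ⟨by rw [g1]; norm_num, fun _ => ?_⟩
        rw [hcc, g1]
        norm_num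
      | succ k ih =>
        intro hk
        obtain ⟨i1, i2⟩ := ih (by omega)
        have i3 := i2 (by omega)
        refine ⟨by rw [show k + 1 + 1 = k + 2 from rfl, i3]; push_cast; ring, fun hk2 => ?_⟩
        have := key (k + 2) (by omega) (by omega)
        rw [if_neg (by omega), show k + 2 - 1 = k + 1 by omega, i1, i3] at this
        push_cast
        rw [show k + 1 + 2 = k + 2 + 1 from rfl]
        linear_combination -this
    have e := (lin (n - 1) (by omega)).1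
    rw [show n - 1 + 1 = n by omega, gn] at e
    have hd : ((n - 1 : ℕ) : ℤ) ∣ 2 := ⟨c, by omega⟩
    have := Int.le_of_dvd (by norm_num) hd
    omega

end Cfsg.Agent.KFacts.SLRow.Hirr
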