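import Cfsg.Agent.KFacts.SLRow.Psl
import Cfsg.Agent.KFacts.RgdOfData

/-!
# Coordinates of `PSL_{n+1}(q)`, `q` even (K-facts for S1765, D7)

`compat_map`, `compat_SL`, `compat_PSL` : the root elements `eA` belong to the root group datum of `Nodes/RGDTypeA`.
-/

set_option autoImplicit false
set_option linter.unusedSectionVars false

namespace Cfsg.Agent.KFacts.SLRow.PslCoord

open Matrix CoxeterSystem Cfsg.Agent.ChevalleyStructure.CoxeterGeom Cfsg.Agent.Tits.Roots Cfsg.Agent.Tits.Core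
  Cfsg.Agent.Nodes.Reps Cfsg.Agent.Nodes.BNOf Cfsg.Agent.Nodes.RGDLib Cfsg.Agent.Nodes.RootsA
  Cfsg.Agent.Nodes.RGDTypeA Cfsg.Agent.KFacts.ChevTwo Cfsg.Agent.KFacts.SLRow.TypeA Cfsg.Agent.KFacts.RgdOfData
open Cfsg.Agent.LieRecognition.BNCox (cA)
open Cfsg.Agent.TitsThree.KSideA (tv)

section map

variable {I W Y Y' K : Type*} [Fintype I] [DecidableEq I] [Group W] [Group Y] [Group Y'] [Field K]
  {M : CoxeterMatrix I} {cs : CoxeterSystem M W} {A : I → I → ℤ} {h : IsCartan M A} {T : Subgroup Y} {n : I → Y}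
  {X : (I → ℤ) → Subgroup Y} {e : (I → ℤ) → K → Y}

theorem nc_map (f : Y →* Y') (x : I → ℤ) (c : K) : nc (fun x t => f (e x t)) x c = f (nc e x c) := by
  rw [nc_def, nc_def, map_mul, map_mul]

theorem nel_map (f : Y →* Y') (x : I → ℤ) : nel (fun x (t : K) => f (e x t)) x = f (nel e x) := nc_map f x 1

theorem hel_map (f : Y →* Y') (x : I → ℤ) (c : K) :
    ChevTwo.hel (fun x t => f (e x t)) x c = f (ChevTwo.hel e x c) := by
  rw [hel_def, hel_def, map_mul, nc_map, nel_map]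

theorem compat_map (C : Compat cs h T n X e) (f : Y →* Y') :
    Compat cs h (T.map f) (fun i => f (n i)) (fun x => (X x).map f) (fun x t => f (e x t)) where
  mem x hx y := by
    constructor
    · rintro ⟨g, hg, rfl⟩
      obtain ⟨t, rfl⟩ := (C.mem x hx g).1 hg
      exact ⟨t, rfl⟩
    · rintro ⟨t, rfl⟩
      exact ⟨_, (C.mem x hx _).2 ⟨t, rfl⟩, rfl⟩
  nn i := by
    show f (n i) = _
    rw [nel_map, C.nn]
  tor := by
    rintro _ ⟨t, ht, rfl⟩ x hx
    obtain ⟨c, hc⟩ := C.tor t ht x hx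
    exact ⟨c, fun a => by rw [← hc a, map_mul, map_mul, map_inv]⟩
  hel j a ha := by
    rw [hel_map]
    exact ⟨_, C.hel j a ha, rfl⟩

end map

variable {n : ℕ} {F : Type*} [Field F] (h2 : ∀ t : F, t + t = 0)
  {W : Type*} [Group W] [Finite W] (cs : CoxeterSystem (cA n) W) {A : Fin n → Fin n → ℤ} (h : IsCartan (cA n) A)

include h2 in
theorem compat_SL : Compat cs h (Cfsg.Agent.Nodes.RGDTypeA.T (Fin (n + 1)) F) (ns n F) (X F) (eA (F := F)) where
  mem x hx g := mem_X_iff cs h hx g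
  nn i := by
    rw [nel, nc_eA h2]
    rfl
  tor t ht x hx := by
    obtain ⟨a, b, hab, rfl⟩ := exists_of_isRoot cs h hx
    have hm := mem_T.1 ht
    refine ⟨t.1 a a * (t.1 b b)⁻¹, fun u => ?_⟩
    rw [eA_rtA hab, hm.conj_tv hab, eA_rtA hab, Equiv.Perm.coe_one, id, id]
    congr 1
    ring
  hel j a ha := by
    have hj : j.castSucc ≠ j.succ := (Fin.castSucc_lt_succ).ne
    rw [hel_def, nel, nc_eA h2, nc_eA h2, mem_T]
    have h3 := (mono_nn hj ha).mul (mono_nn hj (one_ne_zero (α := F)))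
    rwa [Equiv.swap_mul_self] at h3

include h2 in
/-- **`PSL_{n+1}(F)`, `char F = 2`.** -/
theorem compat_PSL : Compat cs h ((Cfsg.Agent.Nodes.RGDTypeA.T (Fin (n + 1)) F).map (pr n F)) (fun i => pr n F (ns n F i))
    (fun x => (X F x).map (pr n F)) (fun x t => pr n F (eA x t)) :=
  compat_map (compat_SL h2 cs h) (pr n F)

end Cfsg.Agent.KFacts.SLRow.PslCoord
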