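import Cfsg.Agent.KFacts.SLRow.Psl
import Cfsg.Agent.KFacts.RgdSys

/-!
# `PSL_{n+1}(F)`, characteristic two: `ChevTwo.Sys` and coordinates

`sys_SL`, `sys_PSL`; `coords`, `coroots`, `fullChar` for `rgd_psl` via `RgdSys`.
-/

set_option autoImplicit false
set_option linter.unusedSectionVars false

namespace Cfsg.Agent.KFacts.SLRow.SysA

open Matrix CoxeterSystem Cfsg.Agent.ChevalleyStructure.CoxeterGeom Cfsg.Agent.Tits.Roots Cfsg.Agent.Tits.Core
  Cfsg.Agent.Nodes.Reps Cfsg.Agent.Nodes.BNOf Cfsg.Agent.Nodes.RGDLib Cfsg.Agent.Nodes.RootsA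
  Cfsg.Agent.Nodes.RGDTypeA Cfsg.Agent.KFacts.ChevTwo Cfsg.Agent.KFacts.SLRow.TypeA Cfsg.Agent.KFacts.SLRow.Def
  Cfsg.Agent.KFacts.SLRow.Psl
open Cfsg.Agent.LieRecognition.BNCox (cA cA_apply)
open Cfsg.Agent.TitsThree.KSideA (tv tv_of_ne tv_add tv_zero tv_neg tv_comm tv_commute diag2n_eq)

variable {n : ℕ} {F : Type*} [Field F]
  {W : Type*} [Group W] (cs : CoxeterSystem (cA n) W) {A : Fin n → Fin n → ℤ} (h : IsCartan (cA n) A)

/-- The character of a diagonal matrix. -/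
theorem exists_chi {d : SpecialLinearGroup (Fin (n + 1)) F} (hd : d ∈ T (Fin (n + 1)) F) :
    ∃ χ : (Fin n → ℤ) →+ Additive Fˣ, ∀ x, IsRoot cs h x → ∀ u : F, d * eA x u * d⁻¹ = eA x (((χ x).toMul : Fˣ) * u) := by
  have hm := mem_T.1 hd
  have h0 : ∀ a, d.1 a a ≠ 0 := fun a => hm.apply_ne_zero a
  obtain ⟨v, hv⟩ : ∃ v : Fin (n + 1) → Fˣ, ∀ a, (v a : F) = d.1 a a := ⟨fun a => Units.mk0 _ (h0 a), fun _ => rfl⟩
  let χ : (Fin n → ℤ) →+ Additive Fˣ :=
    { toFun := fun x => ∑ k, x k • Additive.ofMul (v k.castSucc / v k.succ)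
      map_zero' := Finset.sum_eq_zero fun k _ => by rw [Pi.zero_apply, zero_smul]
      map_add' := fun x y => by
        rw [← Finset.sum_add_distrib]
        exact Finset.sum_congr rfl fun k _ => by rw [Pi.add_apply]; exact add_zsmul _ _ _ }
  have hsr : ∀ k : Fin n, χ (sr k) = Additive.ofMul (v k.castSucc / v k.succ) := by
    intro k
    show ∑ j, (sr k : Fin n → ℤ) j • _ = _
    rw [Finset.sum_eq_single k]
    · rw [sr_self, one_smul]
    · intro j _ hj; rw [sr_ne hj, zero_smul]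
    · intro hk; exact absurd (Finset.mem_univ k) hk
  have key0 : ∀ (m : ℕ) (hm : m < n + 1), χ (rtA 0 ⟨m, hm⟩) = Additive.ofMul (v 0 / v ⟨m, hm⟩) := by
    intro m
    induction m with
    | zero => intro hm; rw [show (⟨0, hm⟩ : Fin (n + 1)) = 0 from rfl, rtA_self, map_zero, div_self']; rfl
    | succ m ih =>
      intro hm
      have hm' : m < n := by omega
      have e1 : rtA (0 : Fin (n + 1)) ⟨m + 1, hm⟩ = rtA 0 ⟨m, by omega⟩ + sr ⟨m, hm'⟩ := by
        rw [← rtA_sr]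
        exact (rtA_add _ _ _).symm
      rw [e1, map_add, ih, hsr, ← ofMul_mul]
      congr 1
      show v 0 / v ⟨m, _⟩ * (v ⟨m, _⟩ / v ⟨m + 1, _⟩) = _
      rw [div_mul_div_cancel]
  have key : ∀ a b : Fin (n + 1), χ (rtA a b) = Additive.ofMul (v a / v b) := by
    intro a b
    have e1 : rtA a b = rtA 0 b - rtA 0 a := by
      rw [sub_eq_add_neg, rtA_neg, add_comm, rtA_add]
    rw [e1, map_sub, key0 b.1 b.2, key0 a.1 a.2, ← ofMul_div]
    congr 1
    show v 0 / v b / (v 0 / v a) = v a / v b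
    rw [div_div_div_cancel_left]
  refine ⟨χ, fun x hx u => ?_⟩
  obtain ⟨a, b, hab, rfl⟩ := exists_of_isRoot cs h hx
  rw [eA_rtA hab, eA_rtA hab, hm.conj_tv hab, key, toMul_ofMul, Units.val_div_eq_div_val, hv, hv]
  simp only [Equiv.Perm.coe_one, id]
  congr 1
  rw [div_eq_mul_inv]; ring

theorem sys_SL [Finite W] [Finite F] [CharP F 2] [Fact (Nat.Prime 2)] : Sys (rgd (F := F) (p := 2) cs h) (eA (F := F)) where
  data := data_SL (CharTwo.add_self_eq_zero) cs h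
  mem_X x hx g := mem_X_iff cs h hx g
  n_eq i := by
    rw [nel, nc_eA CharTwo.add_self_eq_zero]
    rfl
  chi t ht := exists_chi cs h ht

theorem sys_PSL [Finite W] [Finite F] [CharP F 2] [Fact (Nat.Prime 2)] :
    Sys (rgd_psl (F := F) (p := 2) cs h) (fun x t => pr n F (eA x t)) where
  data := data_PSL (CharTwo.add_self_eq_zero) cs h
  mem_X x hx g := by
    constructor
    · rintro ⟨y, hy, rfl⟩
      obtain ⟨t, ht⟩ := (mem_X_iff cs h hx y).1 hy
      exact ⟨t, by rw [ht]⟩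
    · rintro ⟨t, rfl⟩
      exact ⟨_, (mem_X_iff cs h hx _).2 ⟨t, rfl⟩, rfl⟩
  n_eq i := by
    have h1 : nel (fun x t => pr n F (eA x t)) (sr i) = pr n F (nel (eA (F := F)) (sr i)) := by
      rw [nel_def, nel_def, map_mul, map_mul]
    rw [h1, nel, nc_eA CharTwo.add_self_eq_zero]
    rfl
  chi t ht := by
    obtain ⟨d, hd, rfl⟩ := ht
    obtain ⟨χ, hχ⟩ := exists_chi cs h hd
    refine ⟨χ, fun x hx u => ?_⟩
    rw [← map_mul, ← map_inv, ← map_mul, hχ x hx]

end Cfsg.Agent.KFacts.SLRow.SysA
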