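import Cfsg.Agent.KFacts.SLRow.Diag
import Cfsg.Agent.KFacts.SLRow.SysA
import Cfsg.Agent.KFacts.SLRow.DSys
import Cfsg.Agent.KFacts.SLRow.Chev
import Cfsg.Agent.KFacts.SLRow.OmegaPlus
import Cfsg.Agent.KFacts.ChevTwoSysInst
import Cfsg.Agent.KFacts.ChevTwoInstE
import Cfsg.Agent.OddHalf.D7.Cases

/-!
# The simply laced rows of node D7: `K` with datum and coordinates (K-facts for S1765)

* `IsSLC q M K` : `K` has a simply laced datum (`Datum ⊤ q`) of diagram `M` with root elements (`ChevTwo.Sys`) over a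
  finite field of characteristic two with `q` elements;
* `IsSLC.of_equiv` : transport;
* `row_L`, `row_OPlus`, `row_E6`, `row_E7`, `row_E8` : the families of `D7/Cases.lean`.
-/

set_option autoImplicit false
set_option linter.unusedSectionVars false

namespace Cfsg.Agent.KFacts.SLRow.Row

open Cfsg
open CoxeterSystem Cfsg.Agent.ChevalleyStructure.CoxeterGeom Cfsg.Agent.Tits.Roots Cfsg.Agent.Tits.Core
  Cfsg.Agent.Nodes.Reps Cfsg.Agent.Nodes.BNOf Cfsg.Agent.Nodes.RGDLib Cfsg.Agent.KFacts.SLRow.Def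
  Cfsg.Agent.KFacts.ChevTwo Cfsg.Agent.KFacts.SLRow.Diag Cfsg.Agent.OddHalf.D7.Cases

universe u v w

section map

variable {I W Y Y' F : Type*} [Fintype I] [DecidableEq I] [Group W] [Group Y] [Group Y'] [Field F]
  {M : CoxeterMatrix I} {cs : CoxeterSystem M W} {A : I → I → ℤ} {h : IsCartan M A} {p : ℕ} {T : Subgroup Y}
  {n : I → Y} {X : (I → ℤ) → Subgroup Y} {e : (I → ℤ) → F → Y}

/-- The image of the coordinates. -/
theorem sys_map {R : RGD cs h p T n X} (S : Sys R e) (f : Y →* Y') (hf : Function.Injective f)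
    (R' : RGD cs h p (T.map f) (fun i => f (n i)) (fun x => (X x).map f)) : Sys R' (fun x t => f (e x t)) where
  data := TypeA.data_map S.data f fun x _ t ht => hf (by rw [ht, map_one])
  mem_X x hx g := by
    constructor
    · rintro ⟨y, hy, rfl⟩
      obtain ⟨t, rfl⟩ := (S.mem_X x hx y).1 hy
      exact ⟨t, rfl⟩
    · rintro ⟨t, rfl⟩
      exact ⟨_, (S.mem_X x hx _).2 ⟨t, rfl⟩, rfl⟩
  n_eq i := by
    show f (n i) = _
    rw [nel_def, S.n_eq, nel_def, map_mul, map_mul]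
  chi := by
    rintro _ ⟨t, ht, rfl⟩
    obtain ⟨χ, hχ⟩ := S.chi t ht
    exact ⟨χ, fun x hx u => by rw [← map_mul, ← map_inv, ← map_mul, hχ x hx]⟩

end map

/-- `K'` has a simply laced datum of diagram `M` with coordinates over a field of characteristic two with `q`
elements. -/
def IsSLC (q : ℕ) {l : ℕ} (M : CoxeterMatrix (Fin l)) (K' : Type v) [Group K'] : Prop :=
  ∃ (A : Fin l → Fin l → ℤ) (h : IsCartan M A) (T : Subgroup K') (n : Fin l → K')
    (X : (Fin l → ℤ) → Subgroup K') (F : Type) (_ : Field F) (_ : Finite F) (_ : CharP F 2)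
    (e : (Fin l → ℤ) → F → K'), Finite M.Group ∧ Nat.card F = q ∧ DTwo M ∧
      ∃ D : Datum ⊤ q M.toCoxeterSystem h T n X, Sys D.rgd e

theorem IsSLC.of_equiv {q l : ℕ} {M : CoxeterMatrix (Fin l)} {K' : Type v} [Group K'] {K'' : Type w} [Group K'']
    (hK : IsSLC q M K') (f : K' ≃* K'') : IsSLC q M K'' := by
  obtain ⟨A, h, T, n, X, F, _, _, _, e, hW, hq, hM, D, S⟩ := hK
  have D' := D.map f.toMonoidHom f.injective
  have h1 : (⊤ : Subgroup K').map f.toMonoidHom = ⊤ := Subgroup.map_top_of_surjective _ f.surjective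
  rw [h1] at D'
  exact ⟨A, h, _, _, _, F, inferInstance, inferInstance, inferInstance, _, hW, hq, hM, D',
    sys_map S f.toMonoidHom f.injective D'.rgd⟩

theorem IsSLC.isSL {q l : ℕ} {M : CoxeterMatrix (Fin l)} {K' : Type v} [Group K'] (hK : IsSLC q M K') :
    IsSL q l K' := by
  obtain ⟨A, h, T, n, X, F, _, _, _, e, hW, -, -, D, -⟩ := hK
  exact ⟨M, A, h, T, n, X, hW, D⟩

/-! ### The groups -/

open Cfsg.Agent.LieRecognition.BNCox (cA) in
theorem isSLC_PSL {n : ℕ} (hn : 3 ≤ n) (F : Type) [Field F] [Finite F] [CharP F 2] :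
    IsSLC (Nat.card F) (cA n) (Matrix.ProjectiveSpecialLinearGroup (Fin (n + 1)) F) := by
  have : Fact (Nat.Prime 2) := ⟨Nat.prime_two⟩
  have h2 : ∀ t : F, t + t = 0 := CharTwo.add_self_eq_zero
  have hW : Finite (cA n).Group := Cfsg.Agent.Nodes.RootsA.finite_W (cA n).toCoxeterSystem
    (Cfsg.Agent.Nodes.RootsA.isCartan n)
  refine ⟨_, Cfsg.Agent.Nodes.RootsA.isCartan n, _, _, _, F, inferInstance, inferInstance, inferInstance, _, hW, rfl,
    dTwo_A n, ?_, SysA.sys_PSL (cA n).toCoxeterSystem (Cfsg.Agent.Nodes.RootsA.isCartan n)⟩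
  exact ⟨Cfsg.Agent.Nodes.RGDTypeA.rgd_psl (F := F) (cA n).toCoxeterSystem (Cfsg.Agent.Nodes.RootsA.isCartan n), le_top,
    Cfsg.Agent.Nodes.RGDTypeA.G1_psl_eq_top _ _, Psl.noCent h2 _ _, Psl.conn_cA, by simpa using hn,
    fun i j => (Psl.cA_ne i j).1, fun i j => (Psl.cA_ne i j).2, fun x hx => Psl.card_X h2 _ _ hx⟩

open Cfsg.Agent.Nodes.TypeD Cfsg.Agent.Nodes.WittInst Cfsg.Agent.KFacts.SLRow.OPlus Cfsg.Agent.TitsThree.KSideO
  Cfsg.Agent.LieClassical.OrthForms in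
theorem isSLC_OPlus {n : ℕ} (hn : 2 ≤ n) (F : Type) [Field F] [Finite F] [CharP F 2] :
    IsSLC (Nat.card F) (M n) (POmega F (quadFormPlus (n + 2) F)) := by
  have : Fact (Nat.Prime 2) := ⟨Nat.prime_two⟩
  have hn1 : 1 ≤ n := by omega
  have hW : Finite (M n).Group := finite_W (M n).toCoxeterSystem
  rw [← coe_plusForm]
  have hG := good_plus hn1 F
  refine ⟨A n, isCartan n, _, _, _, F, inferInstance, inferInstance, inferInstance, _, hW, rfl, dTwo_D hn, ?_,
    DSys.sys_OPlus F hn1 (M n).toCoxeterSystem⟩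
  exact ⟨rgdD_model (wplus (n + 2) F) (good_plus hn1 F) (amb_plus _) (adm_plus _) _, le_top,
    G1D_eq_top (wplus (n + 2) F) (toPOmega hG) (toPOmega_surjective hG) (adm_plus _) _,
    OmegaPlus.noCent_of_center (G1D_eq_top (wplus (n + 2) F) (toPOmega hG) (toPOmega_surjective hG) (adm_plus _) _)
      (OmegaPlus.center_eq_bot F (by omega)),
    OmegaPlus.conn_M n hn1, by simpa using hn1, fun i j => (OmegaPlus.M_ne n i j).1,
    fun i j => (OmegaPlus.M_ne n i j).2, fun x hx => OmegaPlus.card_XD (wplus (n + 2) F) hG _ hx⟩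

section Chev

open Cfsg.Agent.ChevalleyStructure Cfsg.Agent.ChevalleyStructure.CoxeterGeomTypes Cfsg.Lie Cfsg.Agent.Nodes.RGDChev

theorem noCent_group {D : ChevalleyDatum} {l : ℕ} {M : CoxeterMatrix (Fin l)} (hp : IsType D l M)
    (hD : D ∈ [chevD4, chevF4, chevE6, chevE7, chevE8]) (K : Type) [Field K] [Finite K] {W : Type*} [Group W]
    (cs : CoxeterSystem M W) {T : Subgroup ↥(D.group K)} :
    RgdCent.NoCent cs hp.isCartan T (fun x => (XV D l K x).subgroupOf (D.group K)) := by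
  refine OmegaPlus.noCent_of_center (G1_eq_top hp _) ?_
  obtain ⟨hs, hna⟩ := Cfsg.Agent.S1054.result (F := K) D hD
  rcases (inferInstance : (Subgroup.center ↥(D.group K)).Normal).eq_bot_or_eq_top with h | h
  · exact h
  · exfalso
    apply hna
    refine ⟨⟨fun a b => ?_⟩⟩
    have : b ∈ Subgroup.center ↥(D.group K) := by rw [h]; exact Subgroup.mem_top b
    rw [Subgroup.mem_center_iff] at this
    exact this a

theorem isSLC_group {D : ChevalleyDatum} {l : ℕ} {M : CoxeterMatrix (Fin l)} (hp : IsType D l M)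
    (hD : D ∈ [chevD4, chevF4, chevE6, chevE7, chevE8])
    (h4 : ∀ i j, M i j ≠ 4) (h6 : ∀ i j, M i j ≠ 6) (hc : Conn M) (h3 : 3 ≤ l) (hM : DTwo M)
    (hOK : ChevTwoInst.TwoOK D) (K : Type) [Field K] [Finite K] [CharP K 2] : IsSLC (Nat.card K) M ↥(D.group K) := by
  have : Fact (Nat.Prime 2) := ⟨Nat.prime_two⟩
  have hW : Finite M.Group := finite_W hp M.toCoxeterSystem
  refine ⟨cartanOf D l, hp.isCartan, _, _, _, K, inferInstance, inferInstance, inferInstance, _, hW, rfl, hM, ?_,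
    ChevTwoInst.sys hp hOK M.toCoxeterSystem⟩
  exact ⟨rgd (K := K) hp M.toCoxeterSystem 2, le_top, G1_eq_top hp _, noCent_group hp hD K _, hc, by simpa using h3, h4, h6,
    fun x hx => Chev.card_XV hp K _ hx⟩

theorem isSLC_E6 (K : Type) [Field K] [Finite K] [CharP K 2] :
    IsSLC (Nat.card K) CoxeterMatrix.E₆ ↥(chevE6.group K) :=
  isSLC_group (by simp [IsType, typeList]) (by simp) (by intro i; fin_cases i <;> decide)
    (by intro i; fin_cases i <;> decide)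
    (conn_of_parent ![0, 3, 1, 2, 3, 4] ![0, 3, 0, 2, 3, 4] (by decide) (by decide) (by decide)) (by norm_num)
    dTwo_E6 ChevTwoInst.twoOK_E6 K

theorem isSLC_E7 (K : Type) [Field K] [Finite K] [CharP K 2] :
    IsSLC (Nat.card K) CoxeterMatrix.E₇ ↥(chevE7.group K) :=
  isSLC_group (by simp [IsType, typeList]) (by simp) (by intro i; fin_cases i <;> decide)
    (by intro i; fin_cases i <;> decide)
    (conn_of_parent ![0, 3, 1, 2, 3, 4, 5] ![0, 3, 0, 2, 3, 4, 5] (by decide) (by decide) (by decide)) (by norm_num)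
    dTwo_E7 ChevTwoInst.twoOK_E7 K

theorem isSLC_E8 (K : Type) [Field K] [Finite K] [CharP K 2] :
    IsSLC (Nat.card K) CoxeterMatrix.E₈ ↥(chevE8.group K) :=
  isSLC_group (by simp [IsType, typeList]) (by simp) (by intro i; fin_cases i <;> decide)
    (by intro i; fin_cases i <;> decide)
    (conn_of_parent ![0, 3, 1, 2, 3, 4, 5, 6] ![0, 3, 0, 2, 3, 4, 5, 6] (by decide) (by decide) (by decide))
    (by norm_num) dTwo_E8 ChevTwoInst.twoOK_E8 K

end Chev

/-! ### The families -/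

theorem charTwo_of_card {F : Type*} [Field F] [Fintype F] {a : ℕ} (h : Fintype.card F = 2 ^ a) :
    CharP F 2 := by
  obtain ⟨n, hp, hn⟩ := FiniteField.card F (ringChar F)
  have h1 : ringChar F ∣ 2 ^ a := by
    rw [← h, hn]
    exact dvd_pow_self _ n.2.ne'
  have h2 : ringChar F = 2 := (Nat.prime_dvd_prime_iff_eq hp Nat.prime_two).1 (hp.dvd_of_dvd_pow h1)
  have h3 : CharP F (ringChar F) := inferInstance
  rwa [h2] at h3

open Cfsg.Agent.LieRecognition.BNCox (cA) in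
/-- `L_n(q)`: the diagram has rank `n - 1 ≥ 3`, and rank `≥ 4` for `q = 2`. -/
theorem row_L {K' : Type u} [Group K'] (hK : FamL K') :
    ∃ q n a : ℕ, q = 2 ^ a ∧ 1 ≤ a ∧ 3 ≤ n ∧ (n = 3 → 2 ≤ a) ∧ IsSLC q (cA n) K' := by
  obtain ⟨F, _, _, a, m, ha, hF, hm, h4, ⟨e⟩⟩ := hK
  have := charTwo_of_card hF
  obtain ⟨n, rfl⟩ : ∃ n, m = n + 1 := ⟨m - 1, by omega⟩
  refine ⟨Nat.card F, n, a, by rw [Nat.card_eq_fintype_card, hF], ha, by omega, fun h => h4 (by omega), ?_⟩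
  exact (isSLC_PSL (by omega) F).of_equiv e.symm

/-- `O⁺_{2m}(q)`: the diagram has rank `n + 2 ≥ 4`, and rank `≥ 5` for `q = 2`. -/
theorem row_OPlus {K' : Type u} [Group K'] (hK : FamOPlus' K') :
    ∃ q n a : ℕ, q = 2 ^ a ∧ 1 ≤ a ∧ 2 ≤ n ∧ (n = 2 → 2 ≤ a) ∧ IsSLC q (Cfsg.Agent.Nodes.TypeD.M n) K' := by
  obtain ⟨F, _, _, a, m, ha, hF, hm, h4, ⟨e⟩⟩ := hK
  have := charTwo_of_card hF
  obtain ⟨n, rfl⟩ : ∃ n, m = n + 2 := ⟨m - 2, by omega⟩
  refine ⟨Nat.card F, n, a, by rw [Nat.card_eq_fintype_card, hF], ha, by omega, fun h => h4 (by omega), ?_⟩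
  exact (isSLC_OPlus (by omega) F).of_equiv e.symm

theorem row_E6 {K' : Type u} [Group K'] (hK : FamE6 K') :
    ∃ q a : ℕ, q = 2 ^ a ∧ 1 ≤ a ∧ IsSLC q CoxeterMatrix.E₆ K' := by
  obtain ⟨F, _, _, a, ha, hF, ⟨e⟩⟩ := hK
  have := charTwo_of_card hF
  exact ⟨Nat.card F, a, by rw [Nat.card_eq_fintype_card, hF], ha, (isSLC_E6 F).of_equiv e.symm⟩

theorem row_E7 {K' : Type u} [Group K'] (hK : FamE7 K') :
    ∃ q a : ℕ, q = 2 ^ a ∧ 1 ≤ a ∧ IsSLC q CoxeterMatrix.E₇ K' := by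
  obtain ⟨F, _, _, a, ha, hF, ⟨e⟩⟩ := hK
  have := charTwo_of_card hF
  exact ⟨Nat.card F, a, by rw [Nat.card_eq_fintype_card, hF], ha, (isSLC_E7 F).of_equiv e.symm⟩

theorem row_E8 {K' : Type u} [Group K'] (hK : FamE8 K') :
    ∃ q a : ℕ, q = 2 ^ a ∧ 1 ≤ a ∧ IsSLC q CoxeterMatrix.E₈ K' := by
  obtain ⟨F, _, _, a, ha, hF, ⟨e⟩⟩ := hK
  have := charTwo_of_card hF
  exact ⟨Nat.card F, a, by rw [Nat.card_eq_fintype_card, hF], ha, (isSLC_E8 F).of_equiv e.symm⟩

end Cfsg.Agent.KFacts.SLRow.Row
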