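import Cfsg.Agent.KFacts.SLRow.Def
import Cfsg.Agent.KFacts.RgdSys

/-!
# The torus is abelian; the datum in the big group (K-facts for S1765, D7)

* `comm_T` : `Sys` and `NoCent` imply that `T` is abelian;
* `Datum.toG` : a datum of `⊤ : Subgroup ↥K` gives a datum of `K` in `G`.
-/

set_option autoImplicit false
set_option linter.unusedSectionVars false

namespace Cfsg.Agent.KFacts.SLRow.Tab

open CoxeterSystem Cfsg.Agent.ChevalleyStructure.CoxeterGeom Cfsg.Agent.Tits.Roots Cfsg.Agent.Tits.Core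
  Cfsg.Agent.Nodes.Reps Cfsg.Agent.Nodes.BNOf Cfsg.Agent.Nodes.RGDLib Cfsg.Agent.KFacts.SLRow.Def
  Cfsg.Agent.KFacts.ChevTwo Cfsg.Agent.KFacts.RgdSys Cfsg.Agent.KFacts.RgdCent

variable {I W Y F : Type*} [Fintype I] [DecidableEq I] [Group W] [Group Y] [Field F]
  {M : CoxeterMatrix I} {cs : CoxeterSystem M W} {A : I → I → ℤ} {h : IsCartan M A} {p : ℕ} {T : Subgroup Y}
  {n : I → Y} {X : (I → ℤ) → Subgroup Y} {e : (I → ℤ) → F → Y} {R : RGD cs h p T n X}

theorem comm_T (S : Sys R e) (hN : NoCent cs h T X) {s t : Y} (hs : s ∈ T) (ht : t ∈ T) : s * t = t * s := by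
  refine ext_T S hN (mul_mem hs ht) (mul_mem ht hs) fun r hr a => ?_
  have e1 : ∀ u v : Y, u * v * e r a * (u * v)⁻¹ = u * (v * e r a * v⁻¹) * u⁻¹ := fun u v => by group
  rw [e1, e1, chS_spec S hr ht, chS_spec S hr hs, chS_spec S hr hs, chS_spec S hr ht, mul_left_comm]

/-- The datum in the big group. -/
theorem toG {G : Type*} [Group G] {K : Subgroup G} {q : ℕ} {T : Subgroup ↥K} {n : I → ↥K}
    {X : (I → ℤ) → Subgroup ↥K} (D : Datum (⊤ : Subgroup ↥K) q cs h T n X) :
    Datum K q cs h (T.map K.subtype) (fun i => (n i : G)) (fun x => (X x).map K.subtype) := by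
  have D' := D.map K.subtype Subtype.val_injective
  have h1 : (⊤ : Subgroup ↥K).map K.subtype = K := by
    rw [← MonoidHom.range_eq_map, Subgroup.range_subtype]
  rw [h1] at D'
  exact D'

theorem comm_TG {G : Type*} [Group G] {K : Subgroup G} {T : Subgroup ↥K} {n : I → ↥K}
    {X : (I → ℤ) → Subgroup ↥K} {e : (I → ℤ) → F → ↥K} {R : RGD cs h p T n X} (S : Sys R e)
    (hN : NoCent cs h T X) {s t : G} (hs : s ∈ T.map K.subtype) (ht : t ∈ T.map K.subtype) : s * t = t * s := by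
  obtain ⟨s, hs, rfl⟩ := hs
  obtain ⟨t, ht, rfl⟩ := ht
  exact congrArg Subtype.val (comm_T S hN hs ht)

end Cfsg.Agent.KFacts.SLRow.Tab
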